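import Groth.Agent.VBCurve.K61.HomOpen
import Groth.Agent.VBCurve.K705.Setup
import Groth.Agent.VBCurve.K708.HomH0
import Groth.Agent.VBCurve.K708.Coho

/-!
# A common bundle without sections after tensoring (helper61)

If every stable bundle `V` of slope `e/r` and rank `≤ r` has a bundle `F` of given rank and degree with
`H⁰(V ⊗ F) = 0`, then so does every semistable bundle of this slope of rank `≤ r`.
-/

set_option autoImplicit false
set_option linter.unusedSectionVars false
universe u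
open CategoryTheory CategoryTheory.Limits AlgebraicGeometry TopologicalSpace Opposite

namespace K61.CommonF

open Groth.Agent Groth.Agent.CurvesC Groth.Agent.Dix.PointIdeal K704.Pt K704.HomK K704.Eval K704.Sat
open Groth.Agent.VarietyA.DegRank
open MonoidalCategory K707.Base K707.Deg K707.Slope K707.Semi K61.Hecke K61.HomOpen
open scoped Groth.Agent.Dcoh.MonCat

/-- `H⁰(V ⊗ F) = 0` in terms of maps from the dual of `V`. -/
theorem pu_iff {X : Scheme.{u}} {V V' : X.Modules} [ExactPairing V V'] (F : X.Modules) :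
    PU V' F ↔ Subsingleton (Coh.HH X (CohB1.tensorMod V F) 0) := by
  let _ := K708.Dual.swapPairing V V'
  refine (K708.HomH0.forall_hom_eq_zero_iff V' V F).trans ⟨fun h => ?_, fun h => ?_⟩
  · exact K708.HomH0.subsingleton_HH_iso (Ega2.Tens.swap F V) h
  · exact K708.HomH0.subsingleton_HH_iso (Ega2.Tens.swap V F) h

section

variable (k : Type u) [Field k] {X : Scheme.{u}} [X.Over (Spec (CommRingCat.of k))]
  [IsIntegral X] [IsProper (X ↘ Spec (CommRingCat.of k))] [Smooth (X ↘ Spec (CommRingCat.of k))] [IsAlgClosed k]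
    (hdim : topologicalKrullDim X = 1)

include k hdim

theorem exists_both {n r₁ r₂ : ℕ} {V₁ V₂ F₁ F₂ : X.Modules} (hV₁ : FlatMod.IsFinLocFreeOfRank r₁ V₁)
    (hV₂ : FlatMod.IsFinLocFreeOfRank r₂ V₂) (hF₁ : FlatMod.IsFinLocFreeOfRank n F₁)
    (hF₂ : FlatMod.IsFinLocFreeOfRank n F₂) (hd : dg k F₁ = dg k F₂)
    (h₁ : Subsingleton (Coh.HH X (CohB1.tensorMod V₁ F₁) 0)) (h₂ : Subsingleton (Coh.HH X (CohB1.tensorMod V₂ F₂) 0)) :
    ∃ F : X.Modules, FlatMod.IsFinLocFreeOfRank n F ∧ dg k F = dg k F₁ ∧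
      Subsingleton (Coh.HH X (CohB1.tensorMod V₁ F) 0) ∧ Subsingleton (Coh.HH X (CohB1.tensorMod V₂ F) 0) := by
  obtain ⟨U₁, hU₁, ⟨i₁⟩⟩ := K708.Dual.exists_dual hV₁
  obtain ⟨U₂, hU₂, ⟨i₂⟩⟩ := K708.Dual.exists_dual hV₂
  obtain ⟨F, hF, hFd, hP, hR⟩ := exists_common k hdim (good_hom k hdim (n := n) hU₁) (good_hom k hdim (n := n) hU₂)
    hF₁ hF₂ hd ((pu_iff F₁).2 h₁) ((pu_iff F₂).2 h₂)
  exact ⟨F, hF, hFd, (pu_iff F).1 hP, (pu_iff F).1 hR⟩

theorem main {n r : ℕ} (e d : ℤ)
    (hyp : ∀ V : X.Modules, FlatMod.IsFinLocFree V → 0 < rk V → rk V ≤ r → St k V → dg k V * r = e * rk V →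
      ∃ F : X.Modules, FlatMod.IsFinLocFreeOfRank n F ∧ dg k F = d ∧ Subsingleton (Coh.HH X (CohB1.tensorMod V F) 0))
    (m : ℕ) : ∀ E : X.Modules, FlatMod.IsFinLocFree E → rk E = m → 0 < m → m ≤ r → SS k E → dg k E * r = e * rk E →
      ∃ F : X.Modules, FlatMod.IsFinLocFreeOfRank n F ∧ dg k F = d ∧
        Subsingleton (Coh.HH X (CohB1.tensorMod E F) 0) := by
  have C : Crv k X := Crv.of_smooth hdim
  induction m using Nat.strong_induction_on with
  | _ m ih =>
    intro E hE hm hm0 hmr hss hdeg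
    by_cases hst : St k E
    · exact hyp E hE (by omega) (by omega) hst hdeg
    unfold St at hst
    push Not at hst
    obtain ⟨G, i, hi, hG, hG0, hG1, hle⟩ := hst
    have hcE := coh_of_vb hE
    obtain ⟨G', Q, a, j, q, w, ha, haj, hS, hG', hQ, e1, e2, e3, e4⟩ := exists_saturation C i (coh_of_vb hG) hcE
    have hj : Mono j := hS.mono_f
    have hG'v := vb_of_mono C j hG' hE
    have h1 := hss G' j hj hG'v
    have hG'e : dg k G' * rk E = dg k E * rk G' := by
      have h2 : dg k G * rk E ≤ dg k G' * rk E := mul_le_mul_of_nonneg_right e2 (by positivity)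
      rw [e1] at h1 ⊢
      linarith
    have hQe : dg k Q * rk E = dg k E * rk Q := by
      have e3' : (rk E : ℤ) = rk G' + rk Q := by exact_mod_cast e3
      have h3 : dg k Q * rk E = dg k E * rk E - dg k G' * rk E := by rw [e4]; ring
      rw [h3, hG'e, ← mul_sub, e3']
      ring
    have hmE : (0 : ℤ) < rk E := by
      rw [hm]; exact_mod_cast hm0
    have slope : ∀ W : X.Modules, dg k W * rk E = dg k E * rk W → dg k W * r = e * rk W := by
      intro W hW
      have h4 : (dg k W * r) * rk E = (e * rk W) * rk E := by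
        calc (dg k W * r) * rk E = (dg k W * rk E) * r := by ring
          _ = (dg k E * r) * rk W := by rw [hW]; ring
          _ = (e * rk W) * rk E := by rw [hdeg]; ring
      exact mul_right_cancel₀ hmE.ne' h4
    have hs1 : SS k G' := K705.Setup.ss_left C _ hS hE (by change 0 < rk E; omega) hG'e hss
    have hs2 : SS k Q := K705.Setup.ss_right C _ hS hE hQ (by change 0 < rk E; omega) hQe hss
    obtain ⟨F₁, hF₁, hd₁, hv₁⟩ := ih (rk G') (by omega) G' hG'v rfl (by omega) (by omega) hs1 (slope G' hG'e)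
    obtain ⟨F₂, hF₂, hd₂, hv₂⟩ := ih (rk Q) (by omega) Q hQ rfl (by omega) (by omega) hs2 (slope Q hQe)
    obtain ⟨F, hF, hFd, hP, hR⟩ := exists_both k hdim (isFinLocFreeOfRank_rk hG'v) (isFinLocFreeOfRank_rk hQ)
      hF₁ hF₂ (by rw [hd₁, hd₂]) hv₁ hv₂
    refine ⟨F, hF, by rw [hFd, hd₁], ?_⟩
    exact K708.Coho.subsingleton_mid k (K708.Dual.tensorRight_shortExact (isFinLocFree_of_rank hF) hS) 0 hP hR

end

end K61.CommonF
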