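import Groth.Agent.VBCurve.K61.Drop
import Groth.Agent.VBCurve.K704.HSSTwist
import Groth.Agent.VBCurve.K707.TensL
import Groth.Agent.VBCurve.K704.Gap

/-!
# Rank two: a semistable bundle of slope `g - 1` twisted by a general line bundle of degree 0 has no sections
(helper61)
-/

set_option autoImplicit false
set_option linter.unusedSectionVars false
universe u
open CategoryTheory CategoryTheory.Limits AlgebraicGeometry TopologicalSpace Opposite

namespace K61.Theta2

open Groth.Agent Groth.Agent.CurvesC Groth.Agent.Dix.PointIdeal K704.Pt K704.HomK K704.Eval K704.Sat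
open Groth.Agent.VarietyA.DegRank
open MonoidalCategory K707.Base K707.Deg K707.Slope K707.Semi K707.TensL
open scoped Groth.Agent.Dcoh.MonCat

theorem T_map_eq {X : Scheme.{u}} {M N : X.Modules} (f : M ⟶ N) (L : X.Modules) :
    (T L).map f = f ▷ L := rfl

section

variable (k : Type u) [Field k] {X : Scheme.{u}} [X.Over (Spec (CommRingCat.of k))]
  [IsIntegral X] [IsProper (X ↘ Spec (CommRingCat.of k))] [Smooth (X ↘ Spec (CommRingCat.of k))] [IsAlgClosed k]
    (hdim : topologicalKrullDim X = 1)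

theorem exists_mono_T {X : Scheme.{u}} {L : X.Modules} (hL : PicF.IsInvertible L) {M N : X.Modules} (f : M ⟶ N)
    [Mono f] : ∃ c : CohB1.tensorMod M L ⟶ CohB1.tensorMod N L, Mono c := by
  have := K707.TensL.isEquivalence hL
  have h : Mono ((T L).map f) := inferInstance
  exact ⟨_, h⟩

theorem shortExact_T {X : Scheme.{u}} {S : ShortComplex X.Modules} (hS : S.ShortExact) {L : X.Modules}
    (hL : PicF.IsInvertible L) : (S.map (T L)).ShortExact := by
  have := K707.TensL.isEquivalence hL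
  have : (T L).Additive := Functor.additive_of_preserves_binary_products _
  exact hS.map_of_exact (T L)

include hdim

theorem transfer {r'' : ℕ} {N W Q : X.Modules} (j : N ⟶ W) (q : W ⟶ Q) (w : j ≫ q = 0)
    (hS : (ShortComplex.mk j q w).ShortExact) (hQ : FlatMod.IsFinLocFreeOfRank r'' Q) (p : X)
    (hp : IsClosed ({p} : Set X)) (s : Sec N) (h : s ≫ j ∈ Kp k W p hp) : s ∈ Kp k N p hp := by
  have hj : Mono j := hS.mono_f
  have hI := isInvertible k X hdim p hp
  obtain ⟨t, ht⟩ := h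
  have ht' : t ≫ tw W (pt p hp) = s ≫ j := ht
  have h2 := shortExact_T hS hI
  have h2' := h2.mono_f
  have h3 : t ≫ twm q p hp = 0 := by
    have := mono_tw hQ p hp
    rw [← cancel_mono (tw Q (pt p hp)), Category.assoc, twm_tw, ← Category.assoc, ht', Category.assoc, w,
      comp_zero, zero_comp]
  have h4 : t ≫ ((ShortComplex.mk j q w).map (T (ClSub.idealMod (pt p hp)))).g = 0 := h3
  obtain ⟨l, hl⟩ : ∃ l : Coh.structureModule X ⟶ CohB1.tensorMod N (ClSub.idealMod (pt p hp)),
      l ≫ twm j p hp = t := ⟨h2.exact.lift t h4, h2.exact.lift_f t h4⟩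
  refine ⟨l, ?_⟩
  change l ≫ tw N (pt p hp) = s
  rw [← cancel_mono j, Category.assoc, ← twm_tw, ← Category.assoc, hl, ht']

theorem chi {F : X.Modules} : (Module.finrank k (Coh.HH X F 0) : ℤ) - Module.finrank k (Coh.HH X F 1) =
    dg k F + rk F * (1 - (Curv2.genus k X : ℤ)) := by
  have := K704.Base.deg_eq k X hdim F (rk F)
  rw [dg]
  unfold Curv2.deg at this
  linarith

theorem h0_iso {M N : X.Modules} (e : M ≅ N) : Module.finrank k (Coh.HH X M 0) = Module.finrank k (Coh.HH X N 0) := by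
  rw [← finrank_hom, ← finrank_hom]
  refine LinearEquiv.finrank_eq (LinearEquiv.ofBijective (post k e.hom) ⟨post_injective k e.hom, fun s => ⟨s ≫ e.inv, ?_⟩⟩)
  change (s ≫ e.inv) ≫ e.hom = s
  rw [Category.assoc, e.inv_hom_id, Category.comp_id]

theorem nontrivial_sec {F : X.Modules} (h : 0 < Module.finrank k (Coh.HH X F 0)) : ∃ s : Sec F, s ≠ 0 := by
  have : Nontrivial (Sec F) := Module.nontrivial_of_finrank_pos (R := k) (by
    change 0 < Module.finrank k (Coh.structureModule X ⟶ F)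
    rw [finrank_hom]; exact h)
  exact exists_ne 0

/-- The degree of the ideal of a point is `-1`. -/
theorem dg_ideal (p : X) (hp : IsClosed ({p} : Set X)) : dg k (ClSub.idealMod (pt p hp)) = -1 := by
  have hS := VarietyB.DegCartier.idealSeq_shortExact (pt p hp)
  have h1 := dg_add k _ hS (coh_of_isInvertible (isInvertible k X hdim p hp)) (K707.Base.isCoh_of_rank rank_unit)
    (VarietyB.DegCartier.isCoh_quotMod _)
  have h2 : dg k (Coh.structureModule X) = 0 := by
    rw [dg_of_rank k rank_unit]; exact K703.Chi.deg_structure k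
  have h3 : dg k (ClSub.quotMod (pt p hp)) = 1 := by
    have h4 := dg_tens_quot k X hdim p hp (rank_unit (X := X))
    rw [← dg_iso k (λ_ (ClSub.quotMod (pt p hp)))]
    exact_mod_cast h4
  change dg k (Coh.structureModule X) = dg k (ClSub.idealMod (pt p hp)) + dg k (ClSub.quotMod (pt p hp)) at h1
  omega

theorem main (g : ℤ) (hg : (Curv2.genus k X : ℤ) = g) (𝒮 : X.Modules → Prop)
    (hrk : ∀ F, 𝒮 F → FlatMod.IsFinLocFreeOfRank 2 F) (hdeg : ∀ F, 𝒮 F → dg k F = 2 * (g - 1))
    (hsub : ∀ F, 𝒮 F → ∀ (N : X.Modules) (i : N ⟶ F), Mono i → PicF.IsInvertible N → dg k N ≤ g - 1)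
    (hmod : ∀ F, 𝒮 F → ∀ (p : X) (hp : IsClosed ({p} : Set X)) (q : X) (hq : IsClosed ({q} : Set X))
      (P : X.Modules), PicF.IsInvertible P → Nonempty (CohB1.tensorMod P (ClSub.idealMod (pt p hp)) ≅ Coh.structureModule X) →
        𝒮 (CohB1.tensorMod (CohB1.tensorMod F P) (ClSub.idealMod (pt q hq))))
    (hne : ∃ F, 𝒮 F) : ∃ F, 𝒮 F ∧ Subsingleton (Coh.HH X F 0) := by
  have C : Crv k X := Crv.of_smooth hdim
  classical
  have hex : ∃ n : ℕ, ∃ F, 𝒮 F ∧ Module.finrank k (Coh.HH X F 0) = n := by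
    obtain ⟨F, hF⟩ := hne
    exact ⟨_, F, hF, rfl⟩
  obtain ⟨F, hF, hh⟩ := Nat.find_spec hex
  have hmin : ∀ G, 𝒮 G → Module.finrank k (Coh.HH X F 0) ≤ Module.finrank k (Coh.HH X G 0) := fun G hG => by
    rw [hh]
    exact Nat.find_min' hex ⟨G, hG, rfl⟩
  clear hh
  have hF2 := hrk F hF
  have hcF := K707.Base.isCoh_of_rank hF2
  by_cases h0 : Module.finrank k (Coh.HH X F 0) = 0
  · exact ⟨F, hF, K703.Chi.subsingleton_of_finrank k hcF h0⟩
  exfalso
  set h := Module.finrank k (Coh.HH X F 0) with hh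
  have hpos : 0 < h := Nat.pos_of_ne_zero h0
  have hrF := rk_of_rank hF2
  have hdF := hdeg F hF
  have hχ := chi k hdim (F := F)
  rw [hrF, hdF, hg] at hχ
  have h1F : Module.finrank k (Coh.HH X F 1) = h := by
    push_cast at hχ
    have : (h : ℤ) = Module.finrank k (Coh.HH X F 1) := by
      rw [hh]; linarith
    exact_mod_cast this.symm
  have hnsF : ¬ Subsingleton (Coh.HH X F 1) := fun hs => by
    rw [Module.finrank_zero_of_subsingleton] at h1F
    omega
  obtain ⟨Z1, hZ1, hd1⟩ := K61.Drop.drop_h1 k hdim hF2 hnsF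
  obtain ⟨s, hs⟩ := nontrivial_sec k hdim hpos
  obtain ⟨N, Q, j, q, w, a, hS, hN, hQ, haj⟩ := exists_sat C Fdesc.LocGen.isInvertible_structureModule hF2 s hs
  have hj : Mono j := hS.mono_f
  have hN1 := rank_of_isInvertible hN
  have hcN := coh_of_isInvertible hN
  have hdN := hsub F hF N j hj hN
  have hχN := chi k hdim (F := N)
  rw [rk_of_rank hN1, hg] at hχN
  have ha : a ≠ 0 := by
    rintro rfl
    exact hs (by rw [← haj, zero_comp])
  have fN0 := K703.Chi.finite_H k hcN 0
  have hN0 : 0 < Module.finrank k (Coh.HH X N 0) := by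
    rw [← finrank_hom]
    have : Nontrivial (Coh.structureModule X ⟶ N) := ⟨a, 0, ha⟩
    have := finite_sec k hcN
    exact Module.finrank_pos
  have hnsN : ¬ Subsingleton (Coh.HH X N 1) := fun hs => by
    rw [Module.finrank_zero_of_subsingleton (M := Coh.HH X N 1)] at hχN
    push_cast at hχN
    have : (0 : ℤ) < Module.finrank k (Coh.HH X N 0) := by exact_mod_cast hN0
    linarith
  obtain ⟨Z2, hZ2, hd2⟩ := K61.Drop.drop_h1 k hdim hN1 hnsN
  obtain ⟨p, hp, hpZ⟩ := K704.HSSTwist.exists_closed_not_mem k hdim (Z1 ∪ Z2) (hZ1.union hZ2)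
  simp only [Set.mem_union, not_or] at hpZ
  have hI := isInvertible k X hdim p hp
  obtain ⟨P, hP, ⟨e0⟩⟩ := Grpsch.PicGrp.exists_inverse hI
  have e : CohB1.tensorMod P (ClSub.idealMod (pt p hp)) ≅ Coh.structureModule X := Ega2.Tens.swap _ _ ≪≫ e0
  have hP1 := rank_of_isInvertible hP
  have back : ∀ M : X.Modules, Nonempty (CohB1.tensorMod (CohB1.tensorMod M P) (ClSub.idealMod (pt p hp)) ≅ M) :=
    fun M => K704.Gap.isoT M P (ClSub.idealMod (pt p hp)) ⟨e⟩
  have hdP : dg k P = 1 := by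
    have h1 := dg_tensor k hdim hP1 (coh_of_isInvertible hI)
    rw [dg_iso k e0, dg_ideal k hdim p hp, rk_of_rank (rank_of_isInvertible hI), dg_of_rank k rank_unit,
      K703.Chi.deg_structure k] at h1
    push_cast at h1
    linarith
  have hW : FlatMod.IsFinLocFreeOfRank 2 (CohB1.tensorMod F P) := by
    simpa using Krr.H495.Rank.rank_tensor hF2 hP1
  have hN' : FlatMod.IsFinLocFreeOfRank 1 (CohB1.tensorMod N P) := by
    simpa using Krr.H495.Rank.rank_tensor hN1 hP1
  have hQ' : FlatMod.IsFinLocFreeOfRank 1 (CohB1.tensorMod Q P) := by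
    simpa using Krr.H495.Rank.rank_tensor (rank_of_isInvertible hQ) hP1
  have hcW := K707.Base.isCoh_of_rank hW
  have hcN' := K707.Base.isCoh_of_rank hN'
  have hdW := dg_tensor k hdim hP1 hcF
  have hdN' := dg_tensor k hdim hP1 hcN
  have hχW := chi k hdim (F := CohB1.tensorMod F P)
  have hχN' := chi k hdim (F := CohB1.tensorMod N P)
  rw [hdW, rk_of_rank hW, hg, hrF, hdF, hdP] at hχW
  rw [hdN', rk_of_rank hN', hg, rk_of_rank hN1, hdP] at hχN'
  have hW1 := hd1 p hp hpZ.1 _ hW (back F)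
  have hN1' := hd2 p hp hpZ.2 _ hN' (back N)
  rw [h1F] at hW1
  have hW0 : Module.finrank k (Coh.HH X (CohB1.tensorMod F P) 0) ≤ h + 1 := by
    push_cast at hχW
    have h1 : (Module.finrank k (Coh.HH X (CohB1.tensorMod F P) 1) : ℤ) + 1 ≤ h := by exact_mod_cast hW1
    have h2 : (Module.finrank k (Coh.HH X (CohB1.tensorMod F P) 0) : ℤ) ≤ h + 1 := by linarith
    exact_mod_cast h2
  have hN0' : Module.finrank k (Coh.HH X (CohB1.tensorMod N P) 0) ≤ h := by
    have f0 := K703.Chi.finite_H k hcF 0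
    have h1 := K704.Base.h0_le_of_mono k X j
    push_cast at hχN hχN'
    have h2 : (Module.finrank k (Coh.HH X (CohB1.tensorMod N P) 1) : ℤ) + 1 ≤ Module.finrank k (Coh.HH X N 1) := by
      exact_mod_cast hN1'
    have h3 : (Module.finrank k (Coh.HH X (CohB1.tensorMod N P) 0) : ℤ) ≤ Module.finrank k (Coh.HH X N 0) := by
      linarith
    have h4 : Module.finrank k (Coh.HH X (CohB1.tensorMod N P) 0) ≤ Module.finrank k (Coh.HH X N 0) := by
      exact_mod_cast h3
    exact h4.trans h1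
  -- the twisted sequence
  have hS' := shortExact_T hS hP
  let j' : CohB1.tensorMod N P ⟶ CohB1.tensorMod F P := (T P).map j
  let q' : CohB1.tensorMod F P ⟶ CohB1.tensorMod Q P := (T P).map q
  have w' : j' ≫ q' = 0 := ((ShortComplex.mk j q w).map (T P)).zero
  have hS'' : (ShortComplex.mk j' q' w').ShortExact := hS'
  have hj' : Mono j' := hS''.mono_f
  -- a section of `N'`
  obtain ⟨s', hs'⟩ : ∃ s' : Sec (CohB1.tensorMod N P), s' ≠ 0 := by
    obtain ⟨b⟩ := back N
    have hm := mono_tw hN' p hp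
    refine ⟨a ≫ b.inv ≫ tw (CohB1.tensorMod N P) (pt p hp), fun h0 => ha ?_⟩
    have h1 : (a ≫ b.inv) ≫ tw (CohB1.tensorMod N P) (pt p hp) = 0 := by rw [Category.assoc]; exact h0
    have h2 : a ≫ b.inv = 0 := (cancel_mono (tw (CohB1.tensorMod N P) (pt p hp))).1 (h1.trans zero_comp.symm)
    exact (cancel_mono b.inv).1 (h2.trans zero_comp.symm)
  have fW := finite_sec k hcW
  have key : ∀ (q : X) (hq : IsClosed ({q} : Set X)), h ≤ Module.finrank k (Kp k (CohB1.tensorMod F P) q hq) := by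
    intro q hq
    rw [finrank_Kp k hW q hq]
    exact hmin _ (hmod F hF p hp q hq P hP ⟨e⟩)
  have hW0' : h + 1 ≤ Module.finrank k (Sec (CohB1.tensorMod F P)) := by
    obtain ⟨Z3, hZ3, hd3⟩ := K61.Drop.eval1_inv k hdim (isInvertible_of_rank hN') s' hs'
    obtain ⟨q, hq, hqZ⟩ := K704.HSSTwist.exists_closed_not_mem k hdim Z3 hZ3
    have h1 : s' ≫ j' ∉ Kp k (CohB1.tensorMod F P) q hq := fun hcon =>
      hd3 q hq hqZ (transfer k hdim j' q' w' hS'' hQ' q hq s' hcon)
    have h2 : Kp k (CohB1.tensorMod F P) q hq < ⊤ := lt_top_iff_ne_top.2 fun h => h1 (h ▸ Submodule.mem_top)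
    have h3 := Submodule.finrank_lt h2.ne
    have h4 := key q hq
    omega
  obtain ⟨t, ht⟩ : ∃ t : Sec (CohB1.tensorMod F P), t ∉ LinearMap.range (post k j') := by
    by_contra hcon
    push Not at hcon
    have h1 : LinearMap.range (post k j') = ⊤ := Submodule.eq_top_iff'.2 hcon
    have h2 := finrank_range_post k j'
    rw [h1, finrank_top] at h2
    have h3 : Module.finrank k (Sec (CohB1.tensorMod F P)) = Module.finrank k (Coh.HH X (CohB1.tensorMod N P) 0) := h2
    omega
  have hm := mono_desc C j' q' w' hS'' (isInvertible_of_rank hQ') (isFinLocFree_of_rank hW) (s' ≫ j') t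
    (fun h0 => hs' ((cancel_mono j').1 (h0.trans zero_comp.symm))) ⟨s', rfl⟩ ht
  obtain ⟨Z4, hZ4, hd4⟩ := K704.Sat.exists_finite k hdim hW ⊤ (s' ≫ j') t trivial trivial hm
  obtain ⟨q, hq, hqZ⟩ := K704.HSSTwist.exists_closed_not_mem k hdim Z4 hZ4
  have h1 := hd4 q hq hqZ
  rw [top_inf_eq, finrank_top] at h1
  have h2 := key q hq
  have h3 : Module.finrank k (Sec (CohB1.tensorMod F P)) = Module.finrank k (Coh.HH X (CohB1.tensorMod F P) 0) :=
    finrank_hom k _
  omega

/-- **Raynaud's theorem in rank two**: a semistable bundle of rank two and degree zero has no sections after twisting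
by some invertible module of degree `g - 1`. -/
theorem exists_theta (hg1 : 1 ≤ Curv2.genus k X) {E : X.Modules} (hE : FlatMod.IsFinLocFreeOfRank 2 E)
    (hss : SS k E) (hdeg : dg k E = 0) :
    ∃ L : X.Modules, PicF.IsInvertible L ∧ Curv2.deg k X L 1 = (Curv2.genus k X : ℤ) - 1 ∧
      Subsingleton (Coh.HH X (CohB1.tensorMod E L) 0) := by
  have C : Crv k X := Crv.of_smooth hdim
  have hcE := K707.Base.isCoh_of_rank hE
  have hcO : Coh.IsCoh (Coh.structureModule X) := K707.Base.isCoh_of_rank rank_unit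
  let 𝒮 : X.Modules → Prop := fun F => ∃ L : X.Modules, PicF.IsInvertible L ∧
    Curv2.deg k X L 1 = (Curv2.genus k X : ℤ) - 1 ∧ Nonempty (F ≅ CohB1.tensorMod E L)
  have dgL : ∀ L : X.Modules, PicF.IsInvertible L → dg k L = Curv2.deg k X L 1 := fun L hL =>
    dg_of_rank k (rank_of_isInvertible hL)
  have fin : (∃ F, 𝒮 F ∧ Subsingleton (Coh.HH X F 0)) → ∃ L : X.Modules, PicF.IsInvertible L ∧
      Curv2.deg k X L 1 = (Curv2.genus k X : ℤ) - 1 ∧ Subsingleton (Coh.HH X (CohB1.tensorMod E L) 0) := by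
    rintro ⟨F, ⟨L, hL, hLd, ⟨e⟩⟩, hF⟩
    refine ⟨L, hL, hLd, K703.Twist.h0_eq_zero fun s => ?_⟩
    have h1 := K703.Twist.eq_zero_of_h0 hF (s ≫ e.inv)
    exact (cancel_mono e.inv).1 (h1.trans zero_comp.symm)
  apply fin
  refine main k hdim (Curv2.genus k X : ℤ) rfl 𝒮 ?_ ?_ ?_ ?_ ?_
  · rintro F ⟨L, hL, -, ⟨e⟩⟩
    have h1 : FlatMod.IsFinLocFreeOfRank 2 (CohB1.tensorMod E L) := by
      simpa using Krr.H495.Rank.rank_tensor hE (rank_of_isInvertible hL)
    exact Krr.H495.Rank.rank_iso e.symm h1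
  · rintro F ⟨L, hL, hLd, ⟨e⟩⟩
    rw [dg_iso k e, dg_tensor k hdim (rank_of_isInvertible hL) hcE, hdeg, rk_of_rank hE, dgL L hL, hLd]
    push_cast
    ring
  · rintro F ⟨L, hL, hLd, ⟨e⟩⟩ N i hi hN
    obtain ⟨L', hL', ⟨e'⟩⟩ := Grpsch.PicGrp.exists_inverse hL
    let b : CohB1.tensorMod (CohB1.tensorMod E L) L' ≅ E :=
      Ega2.Tens.assoc E L L' ≪≫ Ega2.Tens.mapTIso (Iso.refl E) e' ≪≫ Ega2.Tens.runit E
    have hm : Mono (i ≫ e.hom) := mono_comp _ _
    obtain ⟨c0, hc0⟩ := exists_mono_T hL' (i ≫ e.hom)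
    let c : CohB1.tensorMod N L' ⟶ E := c0 ≫ b.hom
    have hc : Mono c := mono_comp c0 b.hom
    have hNL : PicF.IsInvertible (CohB1.tensorMod N L') := isInvertible_of_rank (by
      simpa using Krr.H495.Rank.rank_tensor (rank_of_isInvertible hN) (rank_of_isInvertible hL'))
    have h1 := hss _ c hc (isFinLocFree_of_rank (rank_of_isInvertible hNL))
    have h2 := dg_tensor k hdim (rank_of_isInvertible hL') (coh_of_isInvertible hN)
    have h3 := dg_tensor k hdim (rank_of_isInvertible hL') (coh_of_isInvertible hL)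
    have h4 : dg k (Coh.structureModule X) = 0 := by
      rw [dg_of_rank k rank_unit]; exact K703.Chi.deg_structure k
    rw [dg_iso k e', h4, rk_of_rank (rank_of_isInvertible hL), dgL L hL, hLd] at h3
    rw [h2, hdeg, rk_of_rank (rank_of_isInvertible hN), rk_of_rank hE] at h1
    push_cast at h1 h3
    linarith
  · rintro F ⟨L, hL, hLd, ⟨e⟩⟩ p hp q hq P hP ⟨e0⟩
    have hIp := isInvertible k X hdim p hp
    have hIq := isInvertible k X hdim q hq
    have hLP : PicF.IsInvertible (CohB1.tensorMod L P) := isInvertible_of_rank (by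
      simpa using Krr.H495.Rank.rank_tensor (rank_of_isInvertible hL) (rank_of_isInvertible hP))
    have hLPI : PicF.IsInvertible (CohB1.tensorMod (CohB1.tensorMod L P) (ClSub.idealMod (pt q hq))) :=
      isInvertible_of_rank (by
        simpa using Krr.H495.Rank.rank_tensor (rank_of_isInvertible hLP) (rank_of_isInvertible hIq))
    refine ⟨_, hLPI, ?_, ⟨?_⟩⟩
    · have h1 := dg_tensor k hdim (rank_of_isInvertible hIp) (coh_of_isInvertible hP)
      rw [dg_iso k e0, dg_of_rank k rank_unit, K703.Chi.deg_structure, dg_ideal k hdim p hp,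
        rk_of_rank (rank_of_isInvertible hP)] at h1
      have h2 := dg_tensor k hdim (rank_of_isInvertible hP) (coh_of_isInvertible hL)
      rw [rk_of_rank (rank_of_isInvertible hL)] at h2
      rw [← dgL _ hLPI, dg_tensor k hdim (rank_of_isInvertible hIq) (coh_of_isInvertible hLP), h2,
        dg_ideal k hdim q hq, rk_of_rank (rank_of_isInvertible hLP), dgL L hL, hLd]
      push_cast at h1 ⊢
      linarith
    · exact Ega2.Tens.mapTIso (Ega2.Tens.mapTIso e (Iso.refl P) ≪≫ Ega2.Tens.assoc E L P)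
        (Iso.refl (ClSub.idealMod (pt q hq))) ≪≫ Ega2.Tens.assoc E (CohB1.tensorMod L P) _
  · obtain ⟨L, hL, hd⟩ := K704.Base.exists_deg_nat k X hdim (Curv2.genus k X - 1)
    refine ⟨CohB1.tensorMod E L, L, hL, ?_, ⟨Iso.refl _⟩⟩
    rw [hd]
    push_cast [hg1]
    ring

end

end K61.Theta2
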