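import Groth.Agent.VBCurve.K704.Sat
import Groth.Agent.VBCurve.K703.Duality
import Groth.Agent.VBCurve.K703.Twist

/-!
# Twisting at general points: `h^0` and `h^1` drop (helper61)

`X` smooth proper integral curve over an algebraically closed field.
* `drop_h1`: if `H^1(F) ≠ 0` then `h^1(W) < h^1(F)` for `F = W(-p)`, `p` outside of a finite set;
* `eval1`: a non-zero section does not vanish at `p` outside of a finite set.
-/

set_option autoImplicit false
set_option linter.unusedSectionVars false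
universe u
open CategoryTheory CategoryTheory.Limits AlgebraicGeometry TopologicalSpace Opposite

namespace K61.Drop

open Groth.Agent Groth.Agent.CurvesC Groth.Agent.Dix.PointIdeal K704.Pt K704.HomK K704.Eval K704.Sat
open Groth.Agent.VarietyA.DegRank
open MonoidalCategory K707.Base K707.Deg K707.Slope K707.Semi
open scoped Groth.Agent.Dcoh.MonCat

theorem comp_zero_aux {C : Type*} [Category* C] [HasZeroMorphisms C] {S T : ShortComplex C} (F : S ⟶ T)
    {A : C} (a : A ⟶ S.X₁) : ((a ≫ S.f) ≫ F.τ₂) ≫ T.g = 0 := by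
  rw [Category.assoc, F.comm₂₃, Category.assoc, ← Category.assoc S.f, S.zero, zero_comp, comp_zero]

variable (k : Type u) [Field k] {X : Scheme.{u}} [X.Over (Spec (CommRingCat.of k))]
  [IsIntegral X] [IsProper (X ↘ Spec (CommRingCat.of k))] [Smooth (X ↘ Spec (CommRingCat.of k))] [IsAlgClosed k]
    (hdim : topologicalKrullDim X = 1)

include k hdim

/-- The cokernel of a non-zero map to an invertible module has finite support. -/
theorem finite_support_cokernel {F w : X.Modules} (hF : Coh.IsCoh F) (hw : PicF.IsInvertible w) (φ : F ⟶ w)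
    (hφ : φ ≠ 0) : (CohB1.support (cokernel φ)).Finite := by
  have C : Crv k X := Crv.of_smooth hdim
  obtain ⟨I, p, i, hp, hi, hpi, hI, hpos, e1, e2, e3, e4⟩ :=
    exists_factor_pos C φ hφ hF (isFinLocFree_of_rank (rank_of_isInvertible hw))
  rw [rk_of_rank (rank_of_isInvertible hw)] at e3
  have hQ : Coh.IsCoh (cokernel φ) := coh_cokernel φ hF (coh_of_isInvertible hw)
  have h2 := subsingleton_of_rk_eq_zero hQ (by omega)
  have := isNoetherian k (X := X)
  exact VarietyA.GlobGen.finite_support _ hQ.2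
    (VarietyA.DegRank.dim_support_le_zero hdim.le _ hQ (not_mem_support h2))

/-- A map vanishing at `p` is not surjective at `p`. -/
theorem mem_support_of_comp {r : ℕ} {F w : X.Modules} (hF : FlatMod.IsFinLocFreeOfRank r F)
    (hw : PicF.IsInvertible w) (φ : F ⟶ w) (p : X) (hp : IsClosed ({p} : Set X))
    (h : φ ≫ (sq w (pt p hp)).g = 0) : p ∈ CohB1.support (cokernel φ) := by
  by_contra hcon
  have h1 : Epi (φ ▷ ClSub.quotMod (pt p hp)) := epi_whiskerRight φ p hp hcon
  have h2 : (sq F (pt p hp)).g ≫ (sqMap φ (pt p hp)).τ₃ = 0 := (sqMap φ (pt p hp)).comm₂₃.symm.trans h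
  have h3 := (sq_shortExact hF (pt p hp)).epi_g
  have h4 : (sqMap φ (pt p hp)).τ₃ = 0 := (cancel_epi (sq F (pt p hp)).g).1 (h2.trans comp_zero.symm)
  have h5 : IsZero (w ⊗ ClSub.quotMod (pt p hp)) :=
    IsZero.of_epi_eq_zero (φ ▷ ClSub.quotMod (pt p hp)) h4
  have h6 := dg_tens_quot k X hdim p hp (rank_of_isInvertible hw)
  rw [dg_of_isZero (k := k) h5] at h6
  simp at h6

/-- `H^1` of a skyscraper vanishes. -/
theorem h1_tens_quot {r : ℕ} {E : X.Modules} (hE : FlatMod.IsFinLocFreeOfRank r E) (p : X)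
    (hp : IsClosed ({p} : Set X)) : Subsingleton (Coh.HH X (E ⊗ ClSub.quotMod (pt p hp)) 1) := by
  have hc := coh_tens_quot k X p hp hE
  have := isNoetherian k (X := X)
  have hs := VarietyA.DegRank.dim_support_le_zero hdim.le _ hc (not_mem_support (torsion_tens_quot k X hdim p hp))
  exact S0047.result X _ hc (fun x hx => VarietyA.GlobGen.isClosed_singleton_of_mem_support _ hc.2 hs hx) 1
    one_pos

/-- Twisting up at a general point lowers a non-zero `h^1`. -/
theorem drop_h1 {r : ℕ} {F : X.Modules} (hF : FlatMod.IsFinLocFreeOfRank r F)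
    (h1 : ¬ Subsingleton (Coh.HH X F 1)) :
    ∃ Z : Set X, Z.Finite ∧ ∀ (p : X) (hp : IsClosed ({p} : Set X)), p ∉ Z →
      ∀ W : X.Modules, FlatMod.IsFinLocFreeOfRank r W →
        Nonempty (CohB1.tensorMod W (ClSub.idealMod (pt p hp)) ≅ F) →
          Module.finrank k (Coh.HH X W 1) + 1 ≤ Module.finrank k (Coh.HH X F 1) := by
  obtain ⟨D⟩ := K703.Duality.nonempty_dualizing k X hdim
  have hcF := K707.Base.isCoh_of_rank hF
  obtain ⟨φ, hφ⟩ := D.exists_ne_zero hcF.1 h1
  refine ⟨_, finite_support_cokernel k hdim hcF D.inv φ hφ, fun p hp hpZ W hW ⟨e⟩ => ?_⟩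
  have hS := sq_shortExact hW (pt p hp)
  have hcW := K707.Base.isCoh_of_rank hW
  have f1 : Module.Finite k (HV X F 1) := S0002.result k X F hcF 1
  have f2 : Module.Finite k (HV X W 1) := S0002.result k X W hcW 1
  have hI : Coh.IsCoh (CohB1.tensorMod W (ClSub.idealMod (pt p hp))) :=
    K707.Base.isCoh_of_rank (Krr.H495.Rank.rank_tensor hW (rank_of_isInvertible (isInvertible k X hdim p hp)))
  let a : F ⟶ W := e.inv ≫ tw W (pt p hp)
  have hsurj : Function.Surjective (HV.map k (tw W (pt p hp)) 1) := by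
    intro x
    have h0 : HV.map k (sq W (pt p hp)).g 1 x = 0 := by
      have := h1_tens_quot k hdim hW p hp
      exact Subsingleton.elim (α := Coh.HH X (W ⊗ ClSub.quotMod (pt p hp)) 1) _ _
    exact HV.exact₂ k hS 1 x h0
  have hsurj' : Function.Surjective (HV.map k a 1) := by
    intro x
    obtain ⟨y, hy⟩ := hsurj x
    refine ⟨HV.map k e.hom 1 y, ?_⟩
    rw [← HV.map_comp_apply, Iso.hom_inv_id_assoc, hy]
  have hle : Module.finrank k (HV X W 1) ≤ Module.finrank k (HV X F 1) := LinearMap.finrank_le_finrank_of_surjective hsurj'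
  by_contra hcon
  have hcon' : Module.finrank k (HV X F 1) ≤ Module.finrank k (HV X W 1) := by
    have : Module.finrank k (Coh.HH X F 1) < Module.finrank k (Coh.HH X W 1) + 1 := not_le.1 hcon
    exact Nat.lt_succ_iff.1 this
  have heq := le_antisymm hcon' hle
  have hinj : Function.Injective (HV.map k a 1) :=
    (LinearMap.injective_iff_surjective_of_finrank_eq_finrank heq).2 hsurj'
  let E := LinearEquiv.ofBijective (HV.map k a 1) ⟨hinj, hsurj'⟩
  obtain ⟨φ', hφ', -⟩ := D.dual W hcW.1 ((D.t ∘ₗ HV.map k φ 1) ∘ₗ E.symm.toLinearMap)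
  have h2 : a ≫ φ' = φ := by
    refine (D.dual.bijective hcF.1).1 ?_
    dsimp only
    rw [HV.map_comp, ← LinearMap.comp_assoc, hφ']
    ext x
    change (D.t ∘ₗ HV.map k φ 1) (E.symm (E x)) = _
    rw [E.symm_apply_apply]
  apply hpZ
  refine mem_support_of_comp k hdim hF D.inv φ p hp ?_
  rw [← h2]
  exact comp_zero_aux (sqMap φ' (pt p hp)) e.inv

/-- A non-zero section of a bundle of rank at most two... of an invertible module does not vanish at a general
point. -/
theorem eval1_inv {N : X.Modules} (hN : PicF.IsInvertible N) (s : Sec N) (hs : s ≠ 0) :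
    ∃ Z : Set X, Z.Finite ∧ ∀ (p : X) (hp : IsClosed ({p} : Set X)), p ∉ Z → s ∉ Kp k N p hp := by
  have hO : FlatMod.IsFinLocFreeOfRank 1 (Coh.structureModule X) := rank_unit
  refine ⟨_, finite_support_cokernel k hdim (K707.Base.isCoh_of_rank hO) hN s hs, fun p hp hpZ h => hpZ ?_⟩
  exact mem_support_of_comp k hdim hO hN s p hp ((mem_Kp_iff k (rank_of_isInvertible hN) p hp s).1 h)

end K61.Drop
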