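import Groth.Agent.VBCurve.K61.Skys

/-!
# Elementary modifications at points (helper61)

`Mod P G`: some kernel of a non-zero map `G ⟶ κ(p)` has the property `P`. `Good n P`: openness properties of `P`
for elementary modifications of bundles of rank `n`, inherited by `Mod P`. The main result is `irr`: if `F₁, F₂` are
subsheaves of the same degree of a bundle of the same rank, `P F₁` and `R F₂`, then some bundle `F` of the same rank
and degree has both properties (irreducibility of the moduli of bundles).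
-/

set_option autoImplicit false
set_option linter.unusedSectionVars false
universe u
open CategoryTheory CategoryTheory.Limits AlgebraicGeometry TopologicalSpace Opposite

namespace K61.Hecke

open Groth.Agent Groth.Agent.CurvesC Groth.Agent.Dix.PointIdeal K704.Pt K704.HomK K704.Eval K704.Sat
open Groth.Agent.VarietyA.DegRank
open MonoidalCategory K707.Base K707.Deg K707.Slope K707.Semi K707.TensL K61.Skys
open scoped Groth.Agent.Dcoh.MonCat

section cat

variable {C : Type*} [Category* C] [Preadditive C] [HasKernels C]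

/-- The kernels of `φ` on `ker ψ` and of `ψ` on `ker φ` agree. -/
noncomputable def swapIso {G A B : C} (φ : G ⟶ A) (ψ : G ⟶ B) :
    kernel (kernel.ι ψ ≫ φ) ≅ kernel (kernel.ι φ ≫ ψ) where
  hom := kernel.lift _ (kernel.lift φ (kernel.ι _ ≫ kernel.ι ψ) (by rw [Category.assoc, kernel.condition])) (by
    rw [kernel.lift_ι_assoc, Category.assoc, kernel.condition, comp_zero])
  inv := kernel.lift _ (kernel.lift ψ (kernel.ι _ ≫ kernel.ι φ) (by rw [Category.assoc, kernel.condition])) (by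
    rw [kernel.lift_ι_assoc, Category.assoc, kernel.condition, comp_zero])
  hom_inv_id := by
    apply (cancel_mono (kernel.ι _)).1
    apply (cancel_mono (kernel.ι ψ)).1
    simp
  inv_hom_id := by
    apply (cancel_mono (kernel.ι _)).1
    apply (cancel_mono (kernel.ι φ)).1
    simp

end cat

/-- Some elementary modification of `G` has the property `P`. -/
def Mod {X : Scheme.{u}} (P : X.Modules → Prop) (G : X.Modules) : Prop :=
  ∃ (p : X) (hp : IsClosed ({p} : Set X)) (φ : G ⟶ ClSub.quotMod (pt p hp)), φ ≠ 0 ∧ P (kernel φ)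

section

variable (k : Type u) [Field k] {X : Scheme.{u}} [X.Over (Spec (CommRingCat.of k))]

/-- Openness of a property for elementary modifications of bundles of rank `n`. -/
structure Good (n : ℕ) (P : X.Modules → Prop) : Prop where
  iso : ∀ {A B : X.Modules}, (A ≅ B) → P A → P B
  o1 : ∀ (G : X.Modules), FlatMod.IsFinLocFreeOfRank n G → ∀ (p : X) (hp : IsClosed ({p} : Set X))
    (φ : G ⟶ ClSub.quotMod (pt p hp)), φ ≠ 0 → P (kernel φ) → ∃ Z : Set X, Z.Finite ∧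
      ∀ (q : X) (hq : IsClosed ({q} : Set X)), q ∉ Z → ∃ ψ : G ⟶ ClSub.quotMod (pt q hq), ψ ≠ 0 ∧ P (kernel ψ)
  o2 : ∀ (G : X.Modules), FlatMod.IsFinLocFreeOfRank n G → ∀ (p : X) (hp : IsClosed ({p} : Set X))
    (φ ψ : G ⟶ ClSub.quotMod (pt p hp)), φ ≠ 0 → P (kernel φ) → ∃ Z : Set k, Z.Finite ∧
      ∀ t : k, t ∉ Z → φ + t • ψ ≠ 0 ∧ P (kernel (φ + t • ψ))

variable [IsIntegral X] [IsProper (X ↘ Spec (CommRingCat.of k))] [Smooth (X ↘ Spec (CommRingCat.of k))] [IsAlgClosed k]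
    (hdim : topologicalKrullDim X = 1)

include k hdim

/-- `G(-q)` is contained in the kernel of every map to `κ(q)`. -/
theorem tw_comp {G : X.Modules} (q : X) (hq : IsClosed ({q} : Set X)) (ψ : G ⟶ ClSub.quotMod (pt q hq)) :
    tw G (pt q hq) ≫ ψ = 0 := by
  rw [← twm_tw, tw_quot_self k hdim q hq, comp_zero]

theorem twm_cancel {G H : X.Modules} (q : X) (hq : IsClosed ({q} : Set X)) (δ : G ⟶ H)
    (h : twm δ q hq = 0) : δ = 0 := by
  have hI := isInvertible k X hdim q hq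
  have := K707.TensL.isEquivalence hI
  apply (T (ClSub.idealMod (pt q hq))).map_injective
  have h1 : (T (ClSub.idealMod (pt q hq))).map (0 : G ⟶ H) = 0 := Functor.map_zero _ _ _
  rw [h1]
  exact h

/-- Maps to `κ(p)` extend from the kernel of a map to `κ(q)`, `p ≠ q`. -/
theorem exists_extend {G : X.Modules} (p : X) (hp : IsClosed ({p} : Set X)) (q : X) (hq : IsClosed ({q} : Set X))
    (hpq : p ≠ q) (ψ : G ⟶ ClSub.quotMod (pt q hq)) (φ : kernel ψ ⟶ ClSub.quotMod (pt p hp)) :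
    ∃ φ' : G ⟶ ClSub.quotMod (pt p hp), kernel.ι ψ ≫ φ' = φ := by
  have hI := isInvertible k X hdim q hq
  have := K707.TensL.isEquivalence hI
  have h1 := isIso_tw_quot k hdim p hp q hq hpq
  obtain ⟨j, hj⟩ : ∃ j : CohB1.tensorMod G (ClSub.idealMod (pt q hq)) ⟶ kernel ψ, j ≫ kernel.ι ψ = tw G (pt q hq) :=
    ⟨kernel.lift ψ (tw G (pt q hq)) (tw_comp k hdim q hq ψ), kernel.lift_ι _ _ _⟩
  obtain ⟨φ', hφ'⟩ : ∃ φ' : G ⟶ ClSub.quotMod (pt p hp),
      twm φ' q hq = j ≫ φ ≫ inv (tw (ClSub.quotMod (pt p hp)) (pt q hq)) :=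
    (T (ClSub.idealMod (pt q hq))).map_surjective _
  refine ⟨φ', ?_⟩
  have h2 : tw G (pt q hq) ≫ φ' = j ≫ φ := by
    rw [← twm_tw, hφ', Category.assoc, Category.assoc, IsIso.inv_hom_id, Category.comp_id]
  have h3 : twm (kernel.ι ψ) q hq ≫ j = tw (kernel ψ) (pt q hq) := by
    rw [← cancel_mono (kernel.ι ψ), Category.assoc, hj, twm_tw]
  rw [← sub_eq_zero]
  apply twm_cancel k hdim q hq
  rw [← cancel_mono (tw (ClSub.quotMod (pt p hp)) (pt q hq)), twm_tw, zero_comp, ← h3, Category.assoc,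
    Preadditive.comp_sub, ← Category.assoc j, hj, h2, sub_self, comp_zero]

/-- A non-zero map to `κ(q)` is non-zero on the kernel of every map to `κ(p)`, `p ≠ q`. -/
theorem restrict_ne_zero {G : X.Modules} (p : X) (hp : IsClosed ({p} : Set X)) (q : X) (hq : IsClosed ({q} : Set X))
    (hpq : p ≠ q) (φ : G ⟶ ClSub.quotMod (pt p hp)) (ψ : G ⟶ ClSub.quotMod (pt q hq)) (hψ : ψ ≠ 0) :
    kernel.ι φ ≫ ψ ≠ 0 := by
  intro h
  apply hψ
  have h1 := isIso_tw_quot k hdim q hq p hp hpq.symm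
  obtain ⟨j, hj⟩ : ∃ j : CohB1.tensorMod G (ClSub.idealMod (pt p hp)) ⟶ kernel φ, j ≫ kernel.ι φ = tw G (pt p hp) :=
    ⟨kernel.lift φ (tw G (pt p hp)) (tw_comp k hdim p hp φ), kernel.lift_ι _ _ _⟩
  apply twm_cancel k hdim p hp
  rw [← cancel_mono (tw (ClSub.quotMod (pt q hq)) (pt p hp)), twm_tw, zero_comp, ← hj, Category.assoc, h, comp_zero]

theorem step {n : ℕ} {P : X.Modules → Prop} (hP : Good k n P) {G : X.Modules}
    (hG : FlatMod.IsFinLocFreeOfRank n G) (p : X) (hp : IsClosed ({p} : Set X))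
    (φ : G ⟶ ClSub.quotMod (pt p hp)) (hφ : φ ≠ 0) (h : Mod P (kernel φ)) :
    ∃ (q : X) (hq : IsClosed ({q} : Set X)) (θ : G ⟶ ClSub.quotMod (pt q hq)), q ≠ p ∧ θ ≠ 0 ∧
      P (kernel (kernel.ι θ ≫ φ)) := by
  obtain ⟨p', hp', ψ₀, hψ₀, hPψ⟩ := h
  obtain ⟨Z1, hZ1, h1⟩ := hP.o1 _ (rank_kernel k hdim hG p hp φ hφ) p' hp' ψ₀ hψ₀ hPψ
  obtain ⟨q, hq, hqZ⟩ := K704.HSSTwist.exists_closed_not_mem k hdim (Z1 ∪ {p}) (hZ1.union (Set.finite_singleton p))
  simp only [Set.mem_union, Set.mem_singleton_iff, not_or] at hqZ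
  obtain ⟨ψ, hψ, hPk⟩ := h1 q hq hqZ.1
  obtain ⟨θ, hθ⟩ := exists_extend k hdim q hq p hp hqZ.2 φ ψ
  refine ⟨q, hq, θ, hqZ.2, ?_, ?_⟩
  · rintro rfl
    exact hψ (by rw [← hθ, comp_zero])
  · rw [← hθ] at hPk
    exact hP.iso (swapIso θ φ) hPk

/-- `Mod P` inherits the openness properties. -/
theorem good_mod {n : ℕ} {P : X.Modules → Prop} (hP : Good k n P) : Good k n (Mod P) := by
  refine ⟨?_, ?_, ?_⟩
  · rintro A B e ⟨p, hp, φ, hφ, h⟩
    refine ⟨p, hp, e.inv ≫ φ, fun h0 => hφ ?_, hP.iso (kernelIsIsoComp e.inv φ).symm h⟩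
    exact (cancel_epi e.inv).1 (h0.trans comp_zero.symm)
  · intro G hG p hp φ hφ h
    obtain ⟨q, hq, θ, hqp, hθ, hPk⟩ := step k hdim hP hG p hp φ hφ h
    have h1 := restrict_ne_zero k hdim q hq p hp hqp θ φ hφ
    obtain ⟨Z, hZ, h2⟩ := hP.o1 _ (rank_kernel k hdim hG q hq θ hθ) p hp _ h1 hPk
    refine ⟨Z ∪ {q}, hZ.union (Set.finite_singleton q), fun q' hq' hqZ => ?_⟩
    simp only [Set.mem_union, Set.mem_singleton_iff, not_or] at hqZ
    obtain ⟨χ, hχ, hPχ⟩ := h2 q' hq' hqZ.1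
    obtain ⟨χ', hχ'⟩ := exists_extend k hdim q' hq' q hq hqZ.2 θ χ
    rw [← hχ'] at hPχ
    refine ⟨χ', ?_, q, hq, kernel.ι χ' ≫ θ, restrict_ne_zero k hdim q' hq' q hq hqZ.2 χ' θ hθ,
      hP.iso (swapIso χ' θ) hPχ⟩
    rintro rfl
    exact hχ (by rw [← hχ', comp_zero])
  · intro G hG p hp φ ψ hφ h
    obtain ⟨q, hq, θ, hqp, hθ, hPk⟩ := step k hdim hP hG p hp φ hφ h
    have h1 := restrict_ne_zero k hdim q hq p hp hqp θ φ hφ
    obtain ⟨Z, hZ, h2⟩ := hP.o2 _ (rank_kernel k hdim hG q hq θ hθ) p hp _ (kernel.ι θ ≫ ψ) h1 hPk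
    refine ⟨Z, hZ, fun t ht => ?_⟩
    obtain ⟨h3, h4⟩ := h2 t ht
    have h5 : kernel.ι θ ≫ φ + t • (kernel.ι θ ≫ ψ) = kernel.ι θ ≫ (φ + t • ψ) := by
      rw [Preadditive.comp_add, Linear.comp_smul]
    rw [h5] at h3 h4
    refine ⟨?_, q, hq, kernel.ι (φ + t • ψ) ≫ θ, restrict_ne_zero k hdim p hp q hq hqp.symm _ θ hθ,
      hP.iso (swapIso (φ + t • ψ) θ) h4⟩
    intro h6
    exact h3 (by rw [h6, comp_zero])

theorem good_iterate {n : ℕ} {P : X.Modules → Prop} (hP : Good k n P) (l : ℕ) : Good k n (Mod^[l] P) := by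
  induction l with
  | zero => exact hP
  | succ l ih =>
    rw [Function.iterate_succ_apply']
    exact good_mod k hdim ih

/-- Two open properties of modifications have a common modification. -/
theorem common {n : ℕ} {P R : X.Modules → Prop} (hP : Good k n P) (hR : Good k n R) {G : X.Modules}
    (hG : FlatMod.IsFinLocFreeOfRank n G) (h1 : Mod P G) (h2 : Mod R G) : Mod (fun F => P F ∧ R F) G := by
  obtain ⟨p₁, hp₁, φ₁, hφ₁, hk₁⟩ := h1
  obtain ⟨p₂, hp₂, φ₂, hφ₂, hk₂⟩ := h2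
  obtain ⟨Z1, hZ1, h3⟩ := hP.o1 G hG p₁ hp₁ φ₁ hφ₁ hk₁
  obtain ⟨Z2, hZ2, h4⟩ := hR.o1 G hG p₂ hp₂ φ₂ hφ₂ hk₂
  obtain ⟨q, hq, hqZ⟩ := K704.HSSTwist.exists_closed_not_mem k hdim (Z1 ∪ Z2) (hZ1.union hZ2)
  simp only [Set.mem_union, not_or] at hqZ
  obtain ⟨ψ₁, hψ₁, hm₁⟩ := h3 q hq hqZ.1
  obtain ⟨ψ₂, hψ₂, hm₂⟩ := h4 q hq hqZ.2
  obtain ⟨W1, hW1, h5⟩ := hP.o2 G hG q hq ψ₁ (ψ₂ - ψ₁) hψ₁ hm₁
  obtain ⟨W2, hW2, h6⟩ := hR.o2 G hG q hq ψ₂ (ψ₁ - ψ₂) hψ₂ hm₂
  have hinf : Infinite k := IsAlgClosed.instInfinite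
  have hfin : (W1 ∪ (fun t : k => 1 - t) ⁻¹' W2).Finite :=
    hW1.union (hW2.preimage (fun a _ b _ h => by simpa using h))
  obtain ⟨t, ht⟩ := hfin.exists_notMem
  simp only [Set.mem_union, Set.mem_preimage, not_or] at ht
  obtain ⟨h7, h8⟩ := h5 t ht.1
  obtain ⟨-, h9⟩ := h6 (1 - t) ht.2
  refine ⟨q, hq, ψ₁ + t • (ψ₂ - ψ₁), h7, h8, ?_⟩
  have h10 : ψ₂ + (1 - t) • (ψ₁ - ψ₂) = ψ₁ + t • (ψ₂ - ψ₁) := by
    rw [sub_smul, one_smul, smul_sub, smul_sub]
    abel
  rwa [h10] at h9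

theorem common_iterate {n : ℕ} {P R : X.Modules → Prop} (hP : Good k n P) (hR : Good k n R) (l : ℕ) :
    ∀ {G : X.Modules}, FlatMod.IsFinLocFreeOfRank n G → (Mod^[l] P) G → (Mod^[l] R) G →
      (Mod^[l] (fun F => P F ∧ R F)) G := by
  induction l with
  | zero => exact fun _ h1 h2 => ⟨h1, h2⟩
  | succ l ih =>
    intro G hG h1 h2
    rw [Function.iterate_succ_apply'] at h1 h2 ⊢
    obtain ⟨p, hp, φ, hφ, h3, h4⟩ := common k hdim (good_iterate k hdim hP l) (good_iterate k hdim hR l) hG h1 h2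
    exact ⟨p, hp, φ, hφ, ih (rank_kernel k hdim hG p hp φ hφ) h3 h4⟩

theorem extract {n : ℕ} {P : X.Modules → Prop} (l : ℕ) : ∀ {G : X.Modules}, FlatMod.IsFinLocFreeOfRank n G →
    (Mod^[l] P) G → ∃ F : X.Modules, FlatMod.IsFinLocFreeOfRank n F ∧ dg k F = dg k G - l ∧ P F := by
  induction l with
  | zero => exact fun hG h => ⟨_, hG, by simp, h⟩
  | succ l ih =>
    intro G hG h
    rw [Function.iterate_succ_apply'] at h
    obtain ⟨p, hp, φ, hφ, h3⟩ := h
    obtain ⟨F, hF, hd, hPF⟩ := ih (rank_kernel k hdim hG p hp φ hφ) h3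
    refine ⟨F, hF, ?_, hPF⟩
    rw [hd, dg_kernel k hdim (K707.Base.isCoh_of_rank hG) p hp φ hφ]
    push_cast
    ring

/-- A subsheaf of colength `l` is an `l`-fold modification. -/
theorem chain {n : ℕ} {P : X.Modules → Prop} (hP : ∀ {A B : X.Modules}, (A ≅ B) → P A → P B) {F : X.Modules}
    (hF : FlatMod.IsFinLocFreeOfRank n F) (hPF : P F) (l : ℕ) : ∀ {B : X.Modules}, FlatMod.IsFinLocFreeOfRank n B →
      ∀ i : F ⟶ B, Mono i → dg k B = dg k F + l → (Mod^[l] P) B := by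
  have C : Crv k X := Crv.of_smooth hdim
  have hcF := K707.Base.isCoh_of_rank hF
  induction l with
  | zero =>
    intro B hB i hi hd
    have hcB := K707.Base.isCoh_of_rank hB
    obtain ⟨e1, e2⟩ := mono_numbers C i hcF hcB
    have hQ := coh_cokernel i hcF hcB
    rw [rk_of_rank hF, rk_of_rank hB] at e1
    have h1 : IsZero (cokernel i) := isZero_of_dg_le_zero k hdim hQ (subsingleton_of_rk_eq_zero hQ (by omega))
      (by push_cast at hd; omega)
    have : Epi i := Preadditive.epi_of_isZero_cokernel i h1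
    have : IsIso i := isIso_of_mono_of_epi i
    exact hP (asIso i) hPF
  | succ l ih =>
    intro B hB i hi hd
    have hcB := K707.Base.isCoh_of_rank hB
    obtain ⟨e1, e2⟩ := mono_numbers C i hcF hcB
    have hQ := coh_cokernel i hcF hcB
    rw [rk_of_rank hF, rk_of_rank hB] at e1
    have hsub := subsingleton_of_rk_eq_zero hQ (by omega)
    have := isNoetherian k (X := X)
    have hs := VarietyA.DegRank.dim_support_le_zero hdim.le _ hQ (not_mem_support hsub)
    obtain ⟨x, hx⟩ : (CohB1.support (cokernel i)).Nonempty := by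
      by_contra hcon
      rw [Set.not_nonempty_iff_eq_empty] at hcon
      have h1 : IsZero (cokernel i) := by
        rw [VarietyB.ExactLoc.isZero_iff_stalk]
        intro x
        have : x ∉ CohB1.support (cokernel i) := by rw [hcon]; exact Set.notMem_empty x
        exact not_mem_support_iff.1 this
      rw [dg_of_isZero (k := k) h1] at e2
      push_cast at hd
      omega
    have hxc := VarietyA.GlobGen.isClosed_singleton_of_mem_support _ hQ.2 hs hx
    obtain ⟨f, hf⟩ := exists_hom hQ x hxc hx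
    have hne : cokernel.π i ≫ f ≠ 0 := fun h0 => hf ((cancel_epi (cokernel.π i)).1 (h0.trans comp_zero.symm))
    obtain ⟨j, hj⟩ : ∃ j : F ⟶ kernel (cokernel.π i ≫ f), j ≫ kernel.ι _ = i :=
      ⟨kernel.lift _ i (by rw [← Category.assoc, cokernel.condition, zero_comp]), kernel.lift_ι _ _ _⟩
    have hjm : Mono j := by
      have : Mono (j ≫ kernel.ι (cokernel.π i ≫ f)) := by rw [hj]; exact hi
      exact mono_of_mono j (kernel.ι _)
    rw [Function.iterate_succ_apply']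
    refine ⟨x, hxc, cokernel.π i ≫ f, hne, ih (rank_kernel k hdim hB x hxc _ hne) j hjm ?_⟩
    rw [dg_kernel k hdim hcB x hxc _ hne, hd]
    push_cast
    ring

/-- Irreducibility: two open properties which hold for subsheaves of the same degree of a bundle of the same rank hold
simultaneously for some bundle of this degree. -/
theorem irr {n : ℕ} {P R : X.Modules → Prop} (hP : Good k n P) (hR : Good k n R) {F₁ F₂ B : X.Modules}
    (h₁ : FlatMod.IsFinLocFreeOfRank n F₁) (h₂ : FlatMod.IsFinLocFreeOfRank n F₂)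
    (hB : FlatMod.IsFinLocFreeOfRank n B) (hd : dg k F₁ = dg k F₂) (i₁ : F₁ ⟶ B) (i₂ : F₂ ⟶ B) [Mono i₁] [Mono i₂]
    (hP₁ : P F₁) (hR₂ : R F₂) :
    ∃ F : X.Modules, FlatMod.IsFinLocFreeOfRank n F ∧ dg k F = dg k F₁ ∧ P F ∧ R F := by
  have C : Crv k X := Crv.of_smooth hdim
  obtain ⟨l, hl⟩ : ∃ l : ℕ, dg k B = dg k F₁ + l := by
    have hcF := K707.Base.isCoh_of_rank h₁
    have hcB := K707.Base.isCoh_of_rank hB
    obtain ⟨e1, e2⟩ := mono_numbers C i₁ hcF hcB
    rw [rk_of_rank h₁, rk_of_rank hB] at e1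
    have hQ := coh_cokernel i₁ hcF hcB
    have h3 := dg_nonneg_of_torsion k hdim hQ (subsingleton_of_rk_eq_zero hQ (by omega))
    exact ⟨(dg k (cokernel i₁)).toNat, by omega⟩
  have h1 := chain k hdim hP.iso h₁ hP₁ l hB i₁ inferInstance hl
  have h2 := chain k hdim hR.iso h₂ hR₂ l hB i₂ inferInstance (by rw [← hd]; exact hl)
  obtain ⟨F, hF, hFd, hPF⟩ := extract k hdim l hB (common_iterate k hdim hP hR l hB h1 h2)
  exact ⟨F, hF, by omega, hPF⟩


end

end K61.Hecke
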