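import Groth.Agent.VBCurve.K61.Hecke
import Groth.Agent.VBCurve.K708.Coprod
import Groth.Agent.S0020

/-!
# Vanishing of `Hom(U, F)` is an open condition for elementary modifications (helper61)

* `exists_inv_van`: bundles twisted by a suitable invertible module have no `H¹`;
* `exists_lift`: maps to `κ(p)` lift to an invertible module;
* `good_hom`: `Good n (fun F => ∀ f : U ⟶ F, f = 0)`;
* `exists_over`: two bundles of rank `n` are subsheaves of a third one.
-/

set_option autoImplicit false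
set_option linter.unusedSectionVars false
universe u
open CategoryTheory CategoryTheory.Limits AlgebraicGeometry TopologicalSpace Opposite

namespace K61.HomOpen

open Groth.Agent Groth.Agent.CurvesC Groth.Agent.Dix.PointIdeal K704.Pt K704.HomK K704.Eval K704.Sat
open Groth.Agent.VarietyA.DegRank K708.Coprod
open MonoidalCategory K707.Base K707.Deg K707.Slope K707.Semi K707.TensL K61.Skys K61.Hecke
open scoped Groth.Agent.Dcoh.MonCat

section linalg

variable {k : Type*} [Field k] {V W : Type*} [AddCommGroup V] [Module k V] [AddCommGroup W] [Module k W]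

theorem lin_o2 [Module.Finite k V] (A B : V →ₗ[k] W) (hA : Function.Injective A) :
    {t : k | ¬ Function.Injective (A + t • B)}.Finite := by
  obtain ⟨L, hL⟩ := LinearMap.exists_leftInverse_of_injective A (LinearMap.ker_eq_bot.2 hA)
  have hL' : ∀ v, L (A v) = v := fun v => LinearMap.congr_fun hL v
  have hfin : {μ : k | Module.End.HasEigenvalue (L ∘ₗ B) μ}.Finite := Module.End.finite_hasEigenvalue (L ∘ₗ B)
  refine (hfin.preimage (f := fun t : k => -t⁻¹) (fun a _ b _ h => by simpa using h)).subset ?_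
  intro t ht
  change ¬ Function.Injective (A + t • B) at ht
  rw [← LinearMap.ker_eq_bot, ← ne_eq, Submodule.ne_bot_iff] at ht
  obtain ⟨v, hv, hv0⟩ := ht
  have h1 : A v + t • B v = 0 := hv
  have h2 : v + t • L (B v) = 0 := by
    have := congrArg L h1
    rwa [map_add, hL', map_smul, map_zero] at this
  have ht0 : t ≠ 0 := by
    rintro rfl
    rw [zero_smul, add_zero] at h2
    exact hv0 h2
  change Module.End.HasEigenvalue (L ∘ₗ B) (-t⁻¹)
  refine Module.End.hasEigenvalue_of_hasEigenvector (x := v) ⟨?_, hv0⟩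
  rw [Module.End.mem_eigenspace_iff]
  change L (B v) = -t⁻¹ • v
  have h3 : t • L (B v) = -v := by rw [eq_neg_iff_add_eq_zero, add_comm]; exact h2
  rw [neg_smul, ← smul_neg, ← h3, smul_smul, inv_mul_cancel₀ ht0, one_smul]

end linalg

section cat

theorem comp_iso_aux {C : Type*} [Category* C] [HasZeroMorphisms C] {S : ShortComplex C} {A B : C} (c : S.X₃ ≅ B)
    (φ : A ⟶ B) (l : A ⟶ S.X₂) (h : l ≫ S.g = φ ≫ c.inv) : l ≫ S.g ≫ c.hom = φ := by
  rw [← Category.assoc, h, Category.assoc, c.inv_hom_id, Category.comp_id]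

theorem lift_comp {C : Type*} [Category* C] [Abelian C] {n : ℕ} (L : Fin n → C) {F G : C} (c : ∀ i, F ⟶ L i)
    (θ : ∐ L ⟶ G) : lift L c ≫ θ = ∑ i, c i ≫ Sigma.ι L i ≫ θ := by
  rw [lift, Preadditive.sum_comp]
  simp only [Category.assoc]

end cat

section

variable (k : Type u) [Field k] {X : Scheme.{u}} [X.Over (Spec (CommRingCat.of k))]
  [IsIntegral X] [IsProper (X ↘ Spec (CommRingCat.of k))] [Smooth (X ↘ Spec (CommRingCat.of k))] [IsAlgClosed k]
    (hdim : topologicalKrullDim X = 1)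

include k hdim

/-- Twisting down does not lower `h¹`. -/
theorem h1_le {r : ℕ} {W : X.Modules} (hW : FlatMod.IsFinLocFreeOfRank r W) (p : X) (hp : IsClosed ({p} : Set X)) :
    Module.finrank k (Coh.HH X W 1) ≤
      Module.finrank k (Coh.HH X (CohB1.tensorMod W (ClSub.idealMod (pt p hp))) 1) := by
  have hS := sq_shortExact hW (pt p hp)
  have hI := isInvertible k X hdim p hp
  have hcW := K707.Base.isCoh_of_rank (Krr.H495.Rank.rank_tensor hW (rank_of_isInvertible hI))
  have f2 : Module.Finite k (HV X (CohB1.tensorMod W (ClSub.idealMod (pt p hp))) 1) := S0002.result k X _ hcW 1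
  have hsurj : Function.Surjective (HV.map k (tw W (pt p hp)) 1) := by
    intro x
    have h0 : HV.map k (sq W (pt p hp)).g 1 x = 0 := by
      have := K61.Drop.h1_tens_quot k hdim hW p hp
      exact Subsingleton.elim (α := Coh.HH X (W ⊗ ClSub.quotMod (pt p hp)) 1) _ _
    exact HV.exact₂ k hS 1 x h0
  exact LinearMap.finrank_le_finrank_of_surjective (R := k)
    (M := HV X (CohB1.tensorMod W (ClSub.idealMod (pt p hp))) 1) (M' := HV X W 1) hsurj

theorem h1_iso {M N : X.Modules} (e : M ≅ N) : Module.finrank k (Coh.HH X M 1) = Module.finrank k (Coh.HH X N 1) := by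
  let E : HV X M 1 ≃ₗ[k] HV X N 1 := LinearEquiv.ofLinearMap (HV.map k e.hom 1) (HV.map k e.inv 1)
    (by rw [← HV.map_comp, e.inv_hom_id, HV.map_id]) (by rw [← HV.map_comp, e.hom_inv_id, HV.map_id])
  exact E.finrank_eq

/-- Two bundles have no `H¹` after twisting by a suitable invertible module. -/
theorem exists_inv_van {r₁ r₂ : ℕ} {G₁ G₂ : X.Modules} (h₁ : FlatMod.IsFinLocFreeOfRank r₁ G₁)
    (h₂ : FlatMod.IsFinLocFreeOfRank r₂ G₂) : ∃ M : X.Modules, PicF.IsInvertible M ∧
      Subsingleton (Coh.HH X (CohB1.tensorMod G₁ M) 1) ∧ Subsingleton (Coh.HH X (CohB1.tensorMod G₂ M) 1) := by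
  classical
  let f : X.Modules → ℕ := fun M => Module.finrank k (Coh.HH X (CohB1.tensorMod G₁ M) 1) +
    Module.finrank k (Coh.HH X (CohB1.tensorMod G₂ M) 1)
  have hex : ∃ n : ℕ, ∃ M, PicF.IsInvertible M ∧ f M = n :=
    ⟨_, Coh.structureModule X, Fdesc.LocGen.isInvertible_structureModule, rfl⟩
  obtain ⟨M, hM, hh⟩ := Nat.find_spec hex
  have hmin : ∀ G, PicF.IsInvertible G → f M ≤ f G := fun G hG => by
    rw [hh]
    exact Nat.find_min' hex ⟨G, hG, rfl⟩
  clear hh
  have hM1 := rank_of_isInvertible hM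
  have ht₁ := Krr.H495.Rank.rank_tensor h₁ hM1
  have ht₂ := Krr.H495.Rank.rank_tensor h₂ hM1
  have key : ∀ (p : X) (hp : IsClosed ({p} : Set X)), ∃ M' : X.Modules, PicF.IsInvertible M' ∧
      ∀ G : X.Modules, Nonempty (CohB1.tensorMod (CohB1.tensorMod G M') (ClSub.idealMod (pt p hp)) ≅
        CohB1.tensorMod G M) := by
    intro p hp
    obtain ⟨P, hP, ⟨e0⟩⟩ := Grpsch.PicGrp.exists_inverse (isInvertible k X hdim p hp)
    have e : CohB1.tensorMod P (ClSub.idealMod (pt p hp)) ≅ Coh.structureModule X := Ega2.Tens.swap _ _ ≪≫ e0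
    refine ⟨CohB1.tensorMod M P, isInvertible_of_rank (by
      simpa using Krr.H495.Rank.rank_tensor hM1 (rank_of_isInvertible hP)), fun G => ⟨?_⟩⟩
    exact Ega2.Tens.mapTIso (Ega2.Tens.assoc G M P).symm (Iso.refl _) ≪≫
      Ega2.Tens.assoc (CohB1.tensorMod G M) P _ ≪≫ Ega2.Tens.mapTIso (Iso.refl _) e ≪≫ Ega2.Tens.runit _
  have hle : ∀ {r : ℕ} {G : X.Modules}, FlatMod.IsFinLocFreeOfRank r G → ∀ (p : X) (hp : IsClosed ({p} : Set X))
      (M' : X.Modules), PicF.IsInvertible M' →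
      Nonempty (CohB1.tensorMod (CohB1.tensorMod G M') (ClSub.idealMod (pt p hp)) ≅ CohB1.tensorMod G M) →
      Module.finrank k (Coh.HH X (CohB1.tensorMod G M') 1) ≤ Module.finrank k (Coh.HH X (CohB1.tensorMod G M) 1) := by
    rintro r G hG p hp M' hM' ⟨e⟩
    rw [← h1_iso k hdim e]
    exact h1_le k hdim (Krr.H495.Rank.rank_tensor hG (rank_of_isInvertible hM')) p hp
  have hc₁ := K707.Base.isCoh_of_rank ht₁
  have hc₂ := K707.Base.isCoh_of_rank ht₂
  refine ⟨M, hM, ?_, ?_⟩
  · by_contra hns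
    obtain ⟨Z, hZ, hd⟩ := K61.Drop.drop_h1 k hdim ht₁ hns
    obtain ⟨p, hp, hpZ⟩ := K704.HSSTwist.exists_closed_not_mem k hdim Z hZ
    obtain ⟨M', hM', he⟩ := key p hp
    have h3 := hd p hp hpZ _ (Krr.H495.Rank.rank_tensor h₁ (rank_of_isInvertible hM')) (he G₁)
    have h4 := hle h₂ p hp M' hM' (he G₂)
    have h5 := hmin M' hM'
    change Module.finrank k (Coh.HH X (CohB1.tensorMod G₁ M) 1) + Module.finrank k (Coh.HH X (CohB1.tensorMod G₂ M) 1) ≤
      Module.finrank k (Coh.HH X (CohB1.tensorMod G₁ M') 1) + Module.finrank k (Coh.HH X (CohB1.tensorMod G₂ M') 1) at h5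
    omega
  · by_contra hns
    obtain ⟨Z, hZ, hd⟩ := K61.Drop.drop_h1 k hdim ht₂ hns
    obtain ⟨p, hp, hpZ⟩ := K704.HSSTwist.exists_closed_not_mem k hdim Z hZ
    obtain ⟨M', hM', he⟩ := key p hp
    have h3 := hd p hp hpZ _ (Krr.H495.Rank.rank_tensor h₂ (rank_of_isInvertible hM')) (he G₂)
    have h4 := hle h₁ p hp M' hM' (he G₁)
    have h5 := hmin M' hM'
    change Module.finrank k (Coh.HH X (CohB1.tensorMod G₁ M) 1) + Module.finrank k (Coh.HH X (CohB1.tensorMod G₂ M) 1) ≤
      Module.finrank k (Coh.HH X (CohB1.tensorMod G₁ M') 1) + Module.finrank k (Coh.HH X (CohB1.tensorMod G₂ M') 1) at h5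
    omega

theorem subsingleton_h1_iso {M N : X.Modules} (e : M ≅ N) (h : Subsingleton (Coh.HH X M 1)) :
    Subsingleton (Coh.HH X N 1) := by
  let E : HV X M 1 ≃ₗ[k] HV X N 1 := LinearEquiv.ofLinearMap (HV.map k e.hom 1) (HV.map k e.inv 1)
    (by rw [← HV.map_comp, e.inv_hom_id, HV.map_id]) (by rw [← HV.map_comp, e.hom_inv_id, HV.map_id])
  have h' : Subsingleton (HV X M 1) := h
  exact E.symm.toEquiv.subsingleton

theorem lift_aux {G G' : X.Modules} [ExactPairing G G'] (hG' : FlatMod.IsFinLocFree G') {S : ShortComplex X.Modules}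
    (hS : S.ShortExact) (h1 : Subsingleton (Coh.HH X (CohB1.tensorMod S.X₁ G') 1)) (φ : G ⟶ S.X₃) :
    ∃ l : G ⟶ S.X₂, l ≫ S.g = φ := by
  have hS' := K708.Dual.tensorRight_shortExact hG' hS
  let x : HV X (S.X₃ ⊗ G') 0 := K708.HomNat.homHV G G' S.X₃ φ
  have h0 : HV.δ k hS' 0 x = 0 := Subsingleton.elim (α := Coh.HH X (CohB1.tensorMod S.X₁ G') 1) _ _
  obtain ⟨y, hy⟩ : ∃ y : HV X (S.X₂ ⊗ G') 0, HV.map k (S.g ▷ G') 0 y = x := HV.exact₃ k hS' 0 x h0
  refine ⟨(K708.HomNat.homHV G G' S.X₂).symm y, (K708.HomNat.homHV G G' S.X₃).injective ?_⟩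
  rw [K708.HomNat.homHV_post k, AddEquiv.apply_symm_apply]
  exact hy

/-- Maps from two bundles to `κ(p)` lift to some invertible module. -/
theorem exists_lift {r₁ r₂ : ℕ} {G₁ G₂ : X.Modules} (h₁ : FlatMod.IsFinLocFreeOfRank r₁ G₁)
    (h₂ : FlatMod.IsFinLocFreeOfRank r₂ G₂) (p : X) (hp : IsClosed ({p} : Set X)) :
    ∃ (M : X.Modules) (ev : M ⟶ ClSub.quotMod (pt p hp)), PicF.IsInvertible M ∧ ev ≠ 0 ∧
      (∀ φ : G₁ ⟶ ClSub.quotMod (pt p hp), ∃ l : G₁ ⟶ M, l ≫ ev = φ) ∧
      (∀ φ : G₂ ⟶ ClSub.quotMod (pt p hp), ∃ l : G₂ ⟶ M, l ≫ ev = φ) := by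
  obtain ⟨G₁', hG₁', ⟨i₁⟩⟩ := K708.Dual.exists_dual h₁
  obtain ⟨G₂', hG₂', ⟨i₂⟩⟩ := K708.Dual.exists_dual h₂
  obtain ⟨M₀, hM₀, v₁, v₂⟩ := exists_inv_van k hdim hG₁' hG₂'
  obtain ⟨P, hP, ⟨e0⟩⟩ := Grpsch.PicGrp.exists_inverse (isInvertible k X hdim p hp)
  have e : CohB1.tensorMod P (ClSub.idealMod (pt p hp)) ≅ Coh.structureModule X := Ega2.Tens.swap _ _ ≪≫ e0
  have hM : PicF.IsInvertible (CohB1.tensorMod M₀ P) := isInvertible_of_rank (by
      simpa using Krr.H495.Rank.rank_tensor (rank_of_isInvertible hM₀) (rank_of_isInvertible hP))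
  have hM1 := rank_of_isInvertible hM
  obtain ⟨b⟩ := K704.Gap.isoT M₀ P (ClSub.idealMod (pt p hp)) ⟨e⟩
  obtain ⟨c⟩ := iso_quot k hdim hM p hp
  have hS := sq_shortExact hM1 (pt p hp)
  have hg := hS.epi_g
  have main : ∀ (G G' : X.Modules) [ExactPairing G G'], FlatMod.IsFinLocFree G' →
      Subsingleton (Coh.HH X (CohB1.tensorMod G' M₀) 1) → ∀ φ : G ⟶ ClSub.quotMod (pt p hp),
        ∃ l : G ⟶ CohB1.tensorMod M₀ P, l ≫ (sq (CohB1.tensorMod M₀ P) (pt p hp)).g ≫ c.hom = φ := by
    intro G G' _ hG' hv φ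
    have h1 : Subsingleton (Coh.HH X (CohB1.tensorMod (sq (CohB1.tensorMod M₀ P) (pt p hp)).X₁ G') 1) :=
      subsingleton_h1_iso k hdim (Ega2.Tens.mapTIso b (Iso.refl G') ≪≫ Ega2.Tens.swap M₀ G').symm hv
    obtain ⟨l, hl⟩ := lift_aux k hdim hG' hS h1 (φ ≫ c.inv)
    exact ⟨l, comp_iso_aux (S := sq (CohB1.tensorMod M₀ P) (pt p hp)) c φ l hl⟩
  refine ⟨CohB1.tensorMod M₀ P, (sq (CohB1.tensorMod M₀ P) (pt p hp)).g ≫ c.hom, hM, ?_,
    main G₁ G₁' (isFinLocFree_of_rank hG₁') v₁, main G₂ G₂' (isFinLocFree_of_rank hG₂') v₂⟩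
  intro h0
  have h2 : c.hom = 0 := (cancel_epi (sq (CohB1.tensorMod M₀ P) (pt p hp)).g).1 (h0.trans comp_zero.symm)
  have h3 : IsZero (ClSub.quotMod (pt p hp)) := IsZero.of_epi_eq_zero c.hom h2
  have h4 := dg_quot k hdim p hp
  rw [dg_of_isZero (k := k) h3] at h4
  simp at h4

theorem flf_coprod {M : X.Modules} (hM : PicF.IsInvertible M) (s : ℕ) :
    FlatMod.IsFinLocFree (∐ fun _ : Fin s => M) :=
  isFinLocFree_coproduct _ fun _ => isFinLocFree_of_rank (rank_of_isInvertible hM)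

/-- Maps to an invertible module which are independent at `p` generate at `p`. -/
theorem not_mem_support {U M : X.Modules} (hU : Coh.IsCoh U) (hM : PicF.IsInvertible M) {s : ℕ}
    (f : Fin s → (U ⟶ M)) (p : X) (hp : IsClosed ({p} : Set X)) (ev : M ⟶ ClSub.quotMod (pt p hp)) (hev : ev ≠ 0)
    (h : ∀ c : Fin s → k, (∑ i, c i • f i) ≫ ev = 0 → c = 0) :
    p ∉ CohB1.support (cokernel (lift (fun _ => M) f)) := by
  intro hp'
  have hcB := coh_of_vb (flf_coprod k hdim hM s)
  obtain ⟨χ, hχ⟩ := exists_hom (coh_cokernel (lift (fun _ => M) f) hU hcB) p hp hp'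
  have h1 : ∀ i : Fin s, ∃ c : k, Sigma.ι (fun _ : Fin s => M) i ≫ cokernel.π (lift (fun _ => M) f) ≫ χ = c • ev :=
    fun i => exists_smul k hdim hM p hp _ ev hev
  choose c hc using h1
  have h2 : (∑ i, c i • f i) ≫ ev = 0 := by
    have h3 : lift (fun _ => M) f ≫ cokernel.π (lift (fun _ => M) f) ≫ χ = 0 := by
      rw [← Category.assoc, cokernel.condition, zero_comp]
    rw [lift_comp] at h3
    rw [← h3, Preadditive.sum_comp]
    refine Finset.sum_congr rfl fun i _ => ?_
    rw [hc, Linear.comp_smul, Linear.smul_comp]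
  have h3 := h c h2
  apply hχ
  rw [← cancel_epi (cokernel.π (lift (fun _ => M) f)), comp_zero]
  apply Sigma.hom_ext
  intro i
  rw [hc, h3, comp_zero]
  exact zero_smul _ _

/-- Maps to an invertible module which generate at `q` are independent at `q`. -/
theorem indep_of_not_mem {U M : X.Modules} (hU : Coh.IsCoh U) (hM : PicF.IsInvertible M) {s : ℕ}
    (f : Fin s → (U ⟶ M)) (q : X) (hq : IsClosed ({q} : Set X)) (ev : M ⟶ ClSub.quotMod (pt q hq)) (hev : ev ≠ 0)
    (h : q ∉ CohB1.support (cokernel (lift (fun _ => M) f))) (c : Fin s → k) (hc : (∑ i, c i • f i) ≫ ev = 0) :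
    c = 0 := by
  have hcB := coh_of_vb (flf_coprod k hdim hM s)
  have hQ := coh_cokernel (lift (fun _ => M) f) hU hcB
  let χ : (∐ fun _ : Fin s => M) ⟶ ClSub.quotMod (pt q hq) := Sigma.desc fun i => c i • ev
  have h1 : lift (fun _ => M) f ≫ χ = 0 := by
    rw [← hc, lift_comp, Preadditive.sum_comp]
    refine Finset.sum_congr rfl fun i _ => ?_
    rw [Sigma.ι_desc, Linear.comp_smul, Linear.smul_comp]
  have h2 : cokernel.desc _ χ h1 = 0 := by
    by_contra hne
    exact h (mem_support_of_hom k hdim hQ q hq _ hne)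
  have h3 : χ = 0 := by
    rw [← cokernel.π_desc (lift (fun _ => M) f) χ h1, h2, comp_zero]
  funext i
  have h4 : c i • ev = 0 := by
    rw [← Sigma.ι_desc (f := fun _ : Fin s => M) (fun i => c i • ev) i]
    change Sigma.ι (fun _ : Fin s => M) i ≫ χ = 0
    rw [h3, comp_zero]
  exact (smul_eq_zero.1 h4).resolve_right hev

/-- A coherent module vanishing at some point has finite support. -/
theorem finite_support {Q : X.Modules} (hQ : Coh.IsCoh Q) (p : X) (hp : p ∉ CohB1.support Q) :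
    rk Q = 0 ∧ (CohB1.support Q).Finite := by
  have hcl := S0020.result X Q hQ.2
  have hgen : genericPoint X ∉ CohB1.support Q := by
    intro h
    exact hp ((genericPoint_specializes p).mem_closed hcl h)
  have := isNoetherian k (X := X)
  exact ⟨rk_eq_zero_of_subsingleton (not_mem_support_iff.1 hgen), VarietyA.GlobGen.finite_support _ hQ.2
    (VarietyA.DegRank.dim_support_le_zero hdim.le _ hQ hgen)⟩


/-- There are no maps `U ⟶ F`. -/
def PU (U F : X.Modules) : Prop := ∀ f : U ⟶ F, f = 0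

omit [IsIntegral X] [IsProper (X ↘ Spec (CommRingCat.of k))] [Smooth (X ↘ Spec (CommRingCat.of k))] [IsAlgClosed k] hdim k [Field k] [X.Over (Spec (CommRingCat.of k))] in
theorem PU_kernel_iff {U G H : X.Modules} (φ : G ⟶ H) : PU U (kernel φ) ↔ ∀ s : U ⟶ G, s ≫ φ = 0 → s = 0 := by
  constructor
  · intro h s hs
    rw [← kernel.lift_ι φ s hs, h (kernel.lift φ s hs), zero_comp]
  · intro h f
    have h1 : f ≫ kernel.ι φ = 0 := h _ (by rw [Category.assoc, kernel.condition, comp_zero])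
    exact (cancel_mono (kernel.ι φ)).1 (h1.trans zero_comp.symm)

theorem good_hom {n r : ℕ} {U : X.Modules} (hU : FlatMod.IsFinLocFreeOfRank r U) : Good k n (PU U) := by
  have hcU := K707.Base.isCoh_of_rank hU
  refine ⟨?_, ?_, ?_⟩
  · intro A B e h f
    have h1 := h (f ≫ e.inv)
    exact (cancel_mono e.inv).1 (h1.trans zero_comp.symm)
  · intro G hG p hp φ hφ h
    rw [PU_kernel_iff] at h
    have hcG := K707.Base.isCoh_of_rank hG
    obtain ⟨M, ev, hM, hev, hl, -⟩ := exists_lift k hdim hG hG p hp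
    obtain ⟨l, hl⟩ := hl φ
    have hl0 : l ≠ 0 := by
      rintro rfl
      exact hφ (by rw [← hl, zero_comp])
    have hfin := K703.HomFin.finite_hom k U G hcU hcG
    let b := Module.finBasis k (U ⟶ G)
    have hcB := coh_of_vb (flf_coprod k hdim hM (Module.finrank k (U ⟶ G)))
    have hsum : ∀ c : Fin (Module.finrank k (U ⟶ G)) → k, (∑ i, c i • (b i ≫ l)) = (∑ i, c i • b i) ≫ l := by
      intro c
      rw [Preadditive.sum_comp]
      refine Finset.sum_congr rfl fun i _ => ?_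
      rw [Linear.smul_comp]
    have h1 := not_mem_support k hdim hcU hM (fun i => b i ≫ l) p hp ev hev (by
      intro c hc
      rw [hsum, Category.assoc, hl] at hc
      have h2 := h _ hc
      funext i
      exact Fintype.linearIndependent_iff.1 b.linearIndependent c h2 i)
    obtain ⟨-, hZ1⟩ := finite_support k hdim (coh_cokernel (lift (fun _ => M) fun i => b i ≫ l) hcU hcB) p h1
    have hZ2 := K61.Drop.finite_support_cokernel k hdim hcG hM l hl0
    refine ⟨_, hZ1.union hZ2, fun q hq hqZ => ?_⟩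
    simp only [Set.mem_union, not_or] at hqZ
    obtain ⟨ev', hev'⟩ := exists_ev k hdim hM q hq
    refine ⟨l ≫ ev', ?_, ?_⟩
    · intro h0
      apply hqZ.2
      have h2 : cokernel.desc l ev' h0 ≠ 0 := fun h3 => hev' (by rw [← cokernel.π_desc l ev' h0, h3, comp_zero])
      exact mem_support_of_hom k hdim (coh_cokernel l hcG (coh_of_isInvertible hM)) q hq _ h2
    · rw [PU_kernel_iff]
      intro s hs
      have h2 : s = ∑ i, (b.repr s i) • b i := (b.sum_repr s).symm
      have h3 := indep_of_not_mem k hdim hcU hM (fun i => b i ≫ l) q hq ev' hev' hqZ.1 (fun i => b.repr s i) (by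
        rw [hsum, ← h2, Category.assoc, hs])
      rw [h2]
      refine Finset.sum_eq_zero fun i _ => ?_
      have h4 := congrFun h3 i
      change b.repr s i = 0 at h4
      rw [h4, zero_smul]
  · intro G hG p hp φ ψ hφ h
    rw [PU_kernel_iff] at h
    have hcG := K707.Base.isCoh_of_rank hG
    have hfin := K703.HomFin.finite_hom k U G hcU hcG
    have h1 := lin_o2 (Linear.rightComp k U φ) (Linear.rightComp k U ψ) (by
      rw [injective_iff_map_eq_zero]
      intro s hs
      exact h s hs)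
    have h2 : {t : k | φ + t • ψ = 0}.Finite := by
      apply Set.Subsingleton.finite
      intro a ha b hb
      by_contra hne
      change φ + a • ψ = 0 at ha
      change φ + b • ψ = 0 at hb
      have h3 : (a - b) • ψ = 0 := by
        rw [sub_smul, sub_eq_zero]
        exact add_left_cancel (ha.trans hb.symm)
      have h4 : ψ = 0 := (smul_eq_zero.1 h3).resolve_left (sub_ne_zero.2 hne)
      rw [h4, smul_zero, add_zero] at ha
      exact hφ ha
    refine ⟨_, h1.union h2, fun t ht => ?_⟩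
    simp only [Set.mem_union, Set.mem_ofPred_eq, not_or, not_not] at ht
    refine ⟨ht.2, ?_⟩
    rw [PU_kernel_iff]
    intro s hs
    apply ht.1
    rw [map_zero]
    change s ≫ φ + t • (s ≫ ψ) = 0
    rw [← hs, Preadditive.comp_add, Linear.comp_smul]

theorem rank_coprod {M : X.Modules} (hM : PicF.IsInvertible M) (s : ℕ) :
    FlatMod.IsFinLocFreeOfRank s (∐ fun _ : Fin s => M) := by
  have h1 := isFinLocFreeOfRank_rk (flf_coprod k hdim hM s)
  obtain ⟨p, hp, -⟩ := K704.HSSTwist.exists_closed_not_mem k hdim ∅ Set.finite_empty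
  have h2 := finrank_hom_quot k hdim h1 p hp
  have h3 := finrank_hom_quot k hdim (rank_of_isInvertible hM) p hp
  let e : ((∐ fun _ : Fin s => M) ⟶ ClSub.quotMod (pt p hp)) ≃ₗ[k] (Fin s → (M ⟶ ClSub.quotMod (pt p hp))) :=
    { toFun := fun f i => Sigma.ι (fun _ : Fin s => M) i ≫ f
      invFun := fun g => Sigma.desc g
      left_inv := fun f => by
        apply Sigma.hom_ext
        intro i
        rw [Sigma.ι_desc]
      right_inv := fun g => by
        funext i
        exact Sigma.ι_desc _ _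
      map_add' := fun f g => by
        funext i
        exact Preadditive.comp_add _ _ _ _ _ _
      map_smul' := fun a f => by
        funext i
        change Sigma.ι (fun _ : Fin s => M) i ≫ (a • f) = a • (Sigma.ι (fun _ : Fin s => M) i ≫ f)
        rw [Linear.comp_smul] }
  have hf : ∀ _ : Fin s, Module.Finite k (M ⟶ ClSub.quotMod (pt p hp)) := fun _ =>
    K703.HomFin.finite_hom k _ _ (coh_of_isInvertible hM) (coh_quot k p hp)
  rw [e.finrank_eq, Module.finrank_pi_fintype] at h2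
  simp only [h3, Finset.sum_const, Finset.card_univ, Fintype.card_fin, smul_eq_mul, mul_one] at h2
  rwa [← h2] at h1

/-- Two bundles of rank `n` embed into a third one. -/
theorem exists_over {n : ℕ} {F₁ F₂ : X.Modules} (h₁ : FlatMod.IsFinLocFreeOfRank n F₁)
    (h₂ : FlatMod.IsFinLocFreeOfRank n F₂) : ∃ (B : X.Modules) (i₁ : F₁ ⟶ B) (i₂ : F₂ ⟶ B),
      FlatMod.IsFinLocFreeOfRank n B ∧ Mono i₁ ∧ Mono i₂ := by
  have C : Crv k X := Crv.of_smooth hdim
  obtain ⟨p, hp, -⟩ := K704.HSSTwist.exists_closed_not_mem k hdim ∅ Set.finite_empty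
  obtain ⟨M, ev, hM, hev, hl₁, hl₂⟩ := exists_lift k hdim h₁ h₂ p hp
  have hB := rank_coprod k hdim hM n
  have hcB := K707.Base.isCoh_of_rank hB
  have main : ∀ F : X.Modules, FlatMod.IsFinLocFreeOfRank n F →
      (∀ φ : F ⟶ ClSub.quotMod (pt p hp), ∃ l : F ⟶ M, l ≫ ev = φ) →
        ∃ i : F ⟶ ∐ fun _ : Fin n => M, Mono i := by
    intro F hF hl
    have hcF := K707.Base.isCoh_of_rank hF
    have hfin := K703.HomFin.finite_hom k F (ClSub.quotMod (pt p hp)) hcF (coh_quot k p hp)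
    let b := Module.finBasisOfFinrankEq k (F ⟶ ClSub.quotMod (pt p hp)) (finrank_hom_quot k hdim hF p hp)
    choose l hl' using fun i => hl (b i)
    have h1 := not_mem_support k hdim hcF hM l p hp ev hev (by
      intro c hc
      rw [Preadditive.sum_comp] at hc
      simp only [Linear.smul_comp, hl'] at hc
      funext i
      exact Fintype.linearIndependent_iff.1 b.linearIndependent c hc i)
    have hQ := coh_cokernel (lift (fun _ => M) l) hcF hcB
    obtain ⟨h2, -⟩ := finite_support k hdim hQ p h1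
    obtain ⟨I, a, i, ha, hi, hai, hI, e1, e2, e3, e4⟩ := exists_factor C (lift (fun _ => M) l) hcF hcB
    rw [rk_of_rank hF] at e1
    rw [rk_of_rank hB] at e3
    have h3 : rk (kernel (lift (fun _ => M) l)) = 0 := by omega
    exact ⟨lift (fun _ => M) l, Preadditive.mono_of_isZero_kernel _
      (isZero_of_rk_eq_zero C (vb_kernel C _ (isFinLocFree_of_rank hF) hcB) h3)⟩
  obtain ⟨i₁, hi₁⟩ := main F₁ h₁ hl₁
  obtain ⟨i₂, hi₂⟩ := main F₂ h₂ hl₂
  exact ⟨_, i₁, i₂, hB, hi₁, hi₂⟩

/-- **Irreducibility**: if `Hom(U₁, F₁) = 0` and `Hom(U₂, F₂) = 0` for bundles `F₁, F₂` of the same rank and degree, then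
`Hom(U₁, F) = Hom(U₂, F) = 0` for some bundle `F` of this rank and degree; the same for finitely many conditions. -/
theorem exists_common {n : ℕ} {P R : X.Modules → Prop} (hP : Good k n P) (hR : Good k n R) {F₁ F₂ : X.Modules}
    (h₁ : FlatMod.IsFinLocFreeOfRank n F₁) (h₂ : FlatMod.IsFinLocFreeOfRank n F₂) (hd : dg k F₁ = dg k F₂)
    (hP₁ : P F₁) (hR₂ : R F₂) :
    ∃ F : X.Modules, FlatMod.IsFinLocFreeOfRank n F ∧ dg k F = dg k F₁ ∧ P F ∧ R F := by
  obtain ⟨B, i₁, i₂, hB, hi₁, hi₂⟩ := exists_over k hdim h₁ h₂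
  exact irr k hdim hP hR h₁ h₂ hB hd i₁ i₂ hP₁ hR₂


end

end K61.HomOpen
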