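import Groth.Agent.VBCurve.K61.Theta2
import Groth.Agent.VBCurve.K708.HomNat
import Groth.Agent.VBCurve.K703.HomFin
import Groth.Agent.CurvesC.SpecField
import Groth.Agent.S4357
import Groth.Agent.Fga.UnitRestrict

/-!
# Maps to the skyscraper `κ(p) = O/I_p` on a smooth curve (helper61)

* `exists_hom`: a coherent module with `p` in its support has a non-zero map to `κ(p)`;
* `epi_of_ne_zero`: a non-zero map from a coherent module to `κ(p)` is an epimorphism;
* `rank_kernel`, `dg_kernel`: its kernel for bundles;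
* `tw_quot_self`, `isIso_tw_quot`: `κ(p) ⊗ I_q ⟶ κ(p)`;
* `finrank_hom_quot`: `dim Hom(G, κ(p)) = rank G`.
-/

set_option autoImplicit false
set_option linter.unusedSectionVars false
universe u
open CategoryTheory CategoryTheory.Limits AlgebraicGeometry TopologicalSpace Opposite

namespace K61.Skys

open Groth.Agent Groth.Agent.CurvesC Groth.Agent.Dix.PointIdeal K704.Pt K704.HomK K704.Eval K704.Sat
open Groth.Agent.VarietyA.DegRank
open MonoidalCategory K707.Base K707.Deg K707.Slope K707.Semi K707.TensL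
open scoped Groth.Agent.Dcoh.MonCat

section spec

theorem exists_dual {K V : Type*} [Field K] [AddCommGroup V] [Module K V] (v : V) (hv : v ≠ 0) :
    ∃ l : V →ₗ[K] K, l v ≠ 0 := by
  by_contra hcon
  push Not at hcon
  exact hv ((Module.forall_dual_apply_eq_zero_iff K v).1 hcon)

theorem exists_hom_mod (K : Type u) [Field K] (V : ModuleCat.{u} (CommRingCat.of K)) (hV : ¬ IsZero V) :
    ∃ g : V ⟶ ModuleCat.of (CommRingCat.of K) K, g ≠ 0 := by
  have h1 : ∃ v : V, v ≠ 0 := by
    by_contra hcon
    push Not at hcon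
    have : Subsingleton V := ⟨fun a b => by rw [hcon a, hcon b]⟩
    exact hV (ModuleCat.isZero_of_subsingleton V)
  obtain ⟨v, hv⟩ := h1
  obtain ⟨l, hl⟩ := @exists_dual K V _ _ (inferInstanceAs (Module (CommRingCat.of K) V)) v hv
  let l' : V →ₗ[CommRingCat.of K] K := l
  refine ⟨ModuleCat.ofHom l', fun h => hl ?_⟩
  exact congrArg (fun g => g.hom v) h

/-- A non-zero module on the spectrum of a field has a non-zero map to the structure module. -/
theorem exists_hom_spec (K : Type u) [Field K] {N : (Spec (CommRingCat.of K)).Modules} (hN : ¬ IsZero N) :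
    ∃ f : N ⟶ Coh.structureModule (Spec (CommRingCat.of K)), f ≠ 0 := by
  have h0 : ¬ IsZero ((moduleSpecΓFunctor (R := CommRingCat.of K)).obj N) := fun h => hN (by
    rw [IsZero.iff_id_eq_zero] at h ⊢
    apply (moduleSpecΓFunctor (R := CommRingCat.of K)).map_injective
    rw [CategoryTheory.Functor.map_id, h, Functor.map_zero])
  obtain ⟨l, hl⟩ := exists_hom_mod K _ h0
  obtain ⟨f, hf⟩ := (CurvesC.SpecField.Γmap_bijective K N).2 l
  refine ⟨f, ?_⟩
  rintro rfl
  apply hl
  rw [← hf]
  change (moduleSpecΓFunctor (R := CommRingCat.of K)).map 0 ≫ _ = 0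
  rw [Functor.map_zero, zero_comp]

end spec


section adj

variable {X : Scheme.{u}}

theorem pushIso {Z' Z X : Scheme.{u}} (e : Z' ⟶ Z) [IsIso e] (j : Z ⟶ X) :
    Nonempty ((Scheme.Modules.pushforward (e ≫ j)).obj (Coh.structureModule Z') ≅
      (Scheme.Modules.pushforward j).obj (Coh.structureModule Z)) := by
  have h1 : IsIso (ClSub.unitToPush e) :=
    Fga.UnitRestrict.isIso_unitToPush e fun U => ConcreteCategory.bijective_of_isIso (e.app U)
  exact ⟨((Scheme.Modules.pushforwardComp e j).app _).symm ≪≫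
    (Scheme.Modules.pushforward j).mapIso (asIso (ClSub.unitToPush e)).symm⟩

theorem pushforwardCongrIso {Z X : Scheme.{u}} {i j : Z ⟶ X} (h : i = j) (M : Z.Modules) :
    Nonempty ((Scheme.Modules.pushforward i).obj M ≅ (Scheme.Modules.pushforward j).obj M) := by
  subst h
  exact ⟨Iso.refl _⟩

/-- A coherent module with `p` in its support has a non-zero map to `κ(p)`. -/
theorem exists_hom {Q : X.Modules} (hq : Coh.IsCoh Q) (p : X) (hp : IsClosed ({p} : Set X))
    (h : p ∈ CohB1.support Q) : ∃ f : Q ⟶ ClSub.quotMod (pt p hp), f ≠ 0 := by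
  have hci := isClosedImmersion p hp
  have := hq.1
  rw [pt_eq_ker]
  have hN : ¬ IsZero ((Scheme.Modules.pullback (X.fromSpecResidueField p)).obj Q) := by
    intro h0
    have h1 := S4357.result (X.fromSpecResidueField p) Q hq.2
    rw [VarietyB.ExactLoc.isZero_iff_stalk] at h0
    let z : ↥(Spec (X.residueField p)) := IsLocalRing.closedPoint (X.residueField p)
    have h2 : z ∈ CohB1.support ((Scheme.Modules.pullback (X.fromSpecResidueField p)).obj Q) := by
      rw [h1]
      have h3 : (X.fromSpecResidueField p) z = p := X.fromSpecResidueField_apply _ z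
      change (X.fromSpecResidueField p) z ∈ CohB1.support Q
      rw [h3]
      exact h
    exact h2 (h0 _)
  obtain ⟨f, hf⟩ := exists_hom_spec (X.residueField p) hN
  obtain ⟨g, hg⟩ : ∃ g : Q ⟶ (Scheme.Modules.pushforward (X.fromSpecResidueField p)).obj
      (Coh.structureModule (Spec (X.residueField p))), g ≠ 0 := by
    refine ⟨(Scheme.Modules.pullbackPushforwardAdjunction (X.fromSpecResidueField p)).homEquiv _ _ f, fun h0 => hf ?_⟩
    have h1 := congrArg ((Scheme.Modules.pullbackPushforwardAdjunction (X.fromSpecResidueField p)).homEquiv _ _).symm h0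
    rw [Equiv.symm_apply_apply] at h1
    rw [h1, Adjunction.homEquiv_counit, Functor.map_zero, zero_comp]
  obtain ⟨e1⟩ := pushforwardCongrIso (X.fromSpecResidueField p).toImage_imageι.symm
    (Coh.structureModule (Spec (X.residueField p)))
  obtain ⟨e2⟩ := pushIso (X.fromSpecResidueField p).toImage (X.fromSpecResidueField p).imageι
  refine ⟨g ≫ e1.hom ≫ e2.hom, fun h0 => hg ?_⟩
  rw [← Category.assoc] at h0
  have h1 : g ≫ e1.hom = 0 := (cancel_mono e2.hom).1 (h0.trans zero_comp.symm)
  exact (cancel_mono e1.hom).1 (h1.trans zero_comp.symm)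

end adj


section gen

variable {C : Type*} [Category* C] [Preadditive C] [MonoidalCategory C] [MonoidalPreadditive C]
variable {I Q : C} (f : I ⟶ 𝟙_ C) (g : 𝟙_ C ⟶ Q) (w : f ≫ g = 0)

theorem gsq_f_quot [Epi (g ▷ I)] : (gsq f g w Q).f = 0 := by
  refine (cancel_epi (g ▷ I)).1 (Eq.trans ?_ comp_zero.symm)
  refine (gsqMap f g w g).comm₁₂.trans ?_
  change (𝟙_ C ◁ f ≫ (ρ_ (𝟙_ C)).hom) ≫ g = 0
  rw [← unitors_equal, leftUnitor_naturality, Category.assoc, w, comp_zero]

end gen

section curve

variable (k : Type u) [Field k] {X : Scheme.{u}} [X.Over (Spec (CommRingCat.of k))]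
  [IsIntegral X] [IsProper (X ↘ Spec (CommRingCat.of k))] [Smooth (X ↘ Spec (CommRingCat.of k))] [IsAlgClosed k]
    (hdim : topologicalKrullDim X = 1)

include k in
theorem coh_quot (p : X) (hp : IsClosed ({p} : Set X)) : Coh.IsCoh (ClSub.quotMod (pt p hp)) :=
  have := isNoetherian k (X := X)
  VarietyB.DegCartier.isCoh_quotMod _

include k hdim

theorem sub_gen_quot (p : X) (hp : IsClosed ({p} : Set X)) :
    Subsingleton ((ClSub.quotMod (pt p hp)).presheaf.stalk (genericPoint X)) := by
  have hne : genericPoint X ≠ p := fun h => VarietyA.RegPoint.ne_genericPoint_of_isClosed hdim hp h.symm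
  exact subsingleton_stalk_quot p hp hne

theorem rk_quot (p : X) (hp : IsClosed ({p} : Set X)) : rk (ClSub.quotMod (pt p hp)) = 0 :=
  rk_eq_zero_of_subsingleton (sub_gen_quot k hdim p hp)

theorem dg_quot (p : X) (hp : IsClosed ({p} : Set X)) : dg k (ClSub.quotMod (pt p hp)) = 1 := by
  have h4 := dg_tens_quot k X hdim p hp (rank_unit (X := X))
  rw [← dg_iso k (λ_ (ClSub.quotMod (pt p hp)))]
  exact_mod_cast h4

/-- A non-zero map from a coherent module to `κ(p)` is an epimorphism. -/
theorem epi_of_ne_zero {G : X.Modules} (hG : Coh.IsCoh G) (p : X) (hp : IsClosed ({p} : Set X))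
    (f : G ⟶ ClSub.quotMod (pt p hp)) (hf : f ≠ 0) : Epi f := by
  have C : Crv k X := Crv.of_smooth hdim
  have hc := coh_quot k p hp
  obtain ⟨I, a, i, ha, hi, hai, hI, e1, e2, e3, e4⟩ := exists_factor C f hG hc
  rw [rk_quot k hdim] at e3
  rw [dg_quot k hdim] at e4
  have hQ := coh_cokernel f hG hc
  have h1 := subsingleton_of_rk_eq_zero hI (by omega)
  have h2 := subsingleton_of_rk_eq_zero hQ (by omega)
  have h3 : 0 < dg k I := by
    by_contra hcon
    have h4 := isZero_of_dg_le_zero k hdim hI h1 (by omega)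
    apply hf
    rw [← hai, h4.eq_zero_of_src i, comp_zero]
  exact Preadditive.epi_of_isZero_cokernel f (isZero_of_dg_le_zero k hdim hQ h2 (by omega))

/-- An epimorphism of torsion modules of the same degree is an isomorphism. -/
theorem isIso_of_epi {A B : X.Modules} (hA : Coh.IsCoh A) (hB : Coh.IsCoh B) (f : A ⟶ B) [Epi f]
    (h0 : rk A = 0) (h1 : dg k A = dg k B) : IsIso f := by
  have C : Crv k X := Crv.of_smooth hdim
  obtain ⟨e1, e2⟩ := epi_numbers C f hA hB
  have hK := coh_kernel C f hA hB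
  have h2 : IsZero (kernel f) := isZero_of_dg_le_zero k hdim hK (subsingleton_of_rk_eq_zero hK (by omega)) (by omega)
  have : Mono f := Preadditive.mono_of_isZero_kernel _ h2
  exact isIso_of_mono_of_epi _

theorem rank_kernel {n : ℕ} {G : X.Modules} (hG : FlatMod.IsFinLocFreeOfRank n G) (p : X)
    (hp : IsClosed ({p} : Set X)) (f : G ⟶ ClSub.quotMod (pt p hp)) (hf : f ≠ 0) :
    FlatMod.IsFinLocFreeOfRank n (kernel f) := by
  have C : Crv k X := Crv.of_smooth hdim
  have hc := coh_quot k p hp
  have hcG := K707.Base.isCoh_of_rank hG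
  have he := epi_of_ne_zero k hdim hcG p hp f hf
  obtain ⟨e1, e2⟩ := epi_numbers C f hcG hc
  rw [rk_quot k hdim, rk_of_rank hG] at e1
  have h1 := isFinLocFreeOfRank_rk (vb_kernel C f (isFinLocFree_of_rank hG) hc)
  rwa [← (by omega : n = rk (kernel f))] at h1

theorem dg_kernel {G : X.Modules} (hG : Coh.IsCoh G) (p : X)
    (hp : IsClosed ({p} : Set X)) (f : G ⟶ ClSub.quotMod (pt p hp)) (hf : f ≠ 0) :
    dg k (kernel f) = dg k G - 1 := by
  have C : Crv k X := Crv.of_smooth hdim
  have he := epi_of_ne_zero k hdim hG p hp f hf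
  obtain ⟨e1, e2⟩ := epi_numbers C f hG (coh_quot k p hp)
  rw [dg_quot k hdim] at e2
  omega

theorem tw_quot_self (p : X) (hp : IsClosed ({p} : Set X)) : tw (ClSub.quotMod (pt p hp)) (pt p hp) = 0 := by
  have hI := isInvertible k X hdim p hp
  have := K707.TensL.isEquivalence hI
  have h1 : Epi (qq (pt p hp)) := (VarietyB.DegCartier.idealSeq_shortExact (pt p hp)).epi_g
  have h2 : Epi (qq (pt p hp) ▷ ClSub.idealMod (pt p hp)) :=
    inferInstanceAs (Epi ((T (ClSub.idealMod (pt p hp))).map (qq (pt p hp))))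
  exact gsq_f_quot (ii (pt p hp)) (qq (pt p hp)) (ii_qq (pt p hp))

theorem epi_tw_quot (p : X) (hp : IsClosed ({p} : Set X)) (q : X) (hq : IsClosed ({q} : Set X)) (hpq : p ≠ q) :
    Epi (tw (ClSub.quotMod (pt p hp)) (pt q hq)) := by
  let F : X.Modules ⥤ X.Modules := DCoh.tensorBi.obj (ClSub.quotMod (pt p hp))
  have : PreservesFiniteColimits F := Dcoh.Stalk.preservesFiniteColimits_tensorBi_obj _
  have : F.Additive := inferInstance
  have hS := VarietyB.DegCartier.idealSeq_shortExact (pt q hq)
  have hc : IsZero (F.obj (ClSub.quotMod (pt q hq))) :=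
    isZero_tensor fun x => by
      by_cases hx : x = p
      · subst hx
        exact Or.inr (subsingleton_stalk_quot q hq hpq)
      · exact Or.inl (subsingleton_stalk_quot p hp hx)
  have e : cokernel (ii (pt q hq)) ≅ ClSub.quotMod (pt q hq) :=
    (cokernelIsCokernel (ii (pt q hq))).coconePointUniqueUpToIso hS.gIsCokernel
  have h1 : IsZero (cokernel (F.map (ii (pt q hq)))) :=
    hc.of_iso ((PreservesCokernel.iso F (ii (pt q hq))).symm ≪≫ F.mapIso e)
  have h2 : Epi (ClSub.quotMod (pt p hp) ◁ ii (pt q hq)) := Preadditive.epi_of_isZero_cokernel (F.map (ii (pt q hq))) h1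
  exact epi_comp (ClSub.quotMod (pt p hp) ◁ ii (pt q hq)) (ρ_ (ClSub.quotMod (pt p hp))).hom

theorem isIso_tw_quot (p : X) (hp : IsClosed ({p} : Set X)) (q : X) (hq : IsClosed ({q} : Set X)) (hpq : p ≠ q) :
    IsIso (tw (ClSub.quotMod (pt p hp)) (pt q hq)) := by
  have hI := isInvertible k X hdim q hq
  have h1 := epi_tw_quot k hdim p hp q hq hpq
  have hc := coh_quot k p hp
  have hI1 := rank_of_isInvertible hI
  have := isNoetherian k (X := X)
  refine isIso_of_epi k hdim (Ega2.GlobGenCrit.isCoh_tensor hc hI) hc _ ?_ ?_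
  · rw [rk_tensor hI1 hc, rk_quot k hdim]
  · rw [dg_tensor k hdim hI1 hc, rk_quot k hdim]
    simp


/-- `Hom(G, κ(p))` has dimension the rank of `G`. -/
theorem finrank_hom_quot {n : ℕ} {G : X.Modules} (hG : FlatMod.IsFinLocFreeOfRank n G) (p : X)
    (hp : IsClosed ({p} : Set X)) : Module.finrank k (G ⟶ ClSub.quotMod (pt p hp)) = n := by
  obtain ⟨G', hG', ⟨i⟩⟩ := K708.Dual.exists_dual hG
  let _ := i
  let e : (G ⟶ ClSub.quotMod (pt p hp)) ≃ₗ[k] (Coh.structureModule X ⟶ ClSub.quotMod (pt p hp) ⊗ G') :=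
    { K708.Dual.homEquiv G G' (ClSub.quotMod (pt p hp)) with
      map_smul' := fun a f => by
        change K708.Dual.homEquiv G G' (ClSub.quotMod (pt p hp)) (a • f) =
          a • K708.Dual.homEquiv G G' (ClSub.quotMod (pt p hp)) f
        rw [K708.Dual.homEquiv_apply, K708.Dual.homEquiv_apply, K706.HomFin.smul_whiskerRight, Linear.comp_smul] }
  rw [e.finrank_eq, finrank_hom]
  have h1 := K61.Theta2.h0_iso k hdim (Ega2.Tens.swap (ClSub.quotMod (pt p hp)) G')
  have h2 := h0_tens_quot k X hdim p hp hG'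
  exact h1.trans h2

/-- Two maps from an invertible module to `κ(p)` are proportional. -/
theorem exists_smul {M : X.Modules} (hM : PicF.IsInvertible M) (p : X) (hp : IsClosed ({p} : Set X))
    (f g : M ⟶ ClSub.quotMod (pt p hp)) (hg : g ≠ 0) : ∃ c : k, f = c • g := by
  have h1 := finrank_hom_quot k hdim (rank_of_isInvertible hM) p hp
  obtain ⟨c, hc⟩ := (finrank_eq_one_iff_of_nonzero' g hg).1 h1 f
  exact ⟨c, hc.symm⟩

/-- `M ⊗ κ(p) ≅ κ(p)` for invertible `M`. -/
theorem iso_quot {M : X.Modules} (hM : PicF.IsInvertible M) (p : X) (hp : IsClosed ({p} : Set X)) :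
    Nonempty (M ⊗ ClSub.quotMod (pt p hp) ≅ ClSub.quotMod (pt p hp)) := by
  have hM1 := rank_of_isInvertible hM
  have hc := coh_tens_quot k X p hp hM1
  have h1 := dg_tens_quot k X hdim p hp hM1
  have h2 : p ∈ CohB1.support (M ⊗ ClSub.quotMod (pt p hp)) := by
    by_contra hcon
    have h3 : IsZero (M ⊗ ClSub.quotMod (pt p hp)) := by
      rw [VarietyB.ExactLoc.isZero_iff_stalk]
      intro x
      by_cases hx : x = p
      · subst hx
        exact not_mem_support_iff.1 hcon
      · have e : (CohB1.tensorMod M (ClSub.quotMod (pt p hp))).presheaf.stalk x ≃ₗ[X.presheaf.stalk x]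
            TensorProduct (X.presheaf.stalk x) (M.presheaf.stalk x)
              ((ClSub.quotMod (pt p hp)).presheaf.stalk x) :=
          (Dcoh.Stalk.tensorStalkIso M (ClSub.quotMod (pt p hp)) x).toLinearEquiv
        have := sub_tens (R := X.presheaf.stalk x) (M := M.presheaf.stalk x)
          (Or.inr (subsingleton_stalk_quot p hp hx))
        exact e.toEquiv.subsingleton
    rw [dg_of_isZero (k := k) h3] at h1
    simp at h1
  obtain ⟨f, hf⟩ := exists_hom hc p hp h2
  have he := epi_of_ne_zero k hdim hc p hp f hf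
  have := isIso_of_epi k hdim hc (coh_quot k p hp) f
    (rk_eq_zero_of_subsingleton (torsion_tens_quot k X hdim p hp)) (by rw [h1, dg_quot k hdim]; rfl)
  exact ⟨asIso f⟩

/-- A non-zero map from an invertible module to `κ(p)`. -/
theorem exists_ev {M : X.Modules} (hM : PicF.IsInvertible M) (p : X) (hp : IsClosed ({p} : Set X)) :
    ∃ f : M ⟶ ClSub.quotMod (pt p hp), f ≠ 0 := by
  have h1 := finrank_hom_quot k hdim (rank_of_isInvertible hM) p hp
  have : Nontrivial (M ⟶ ClSub.quotMod (pt p hp)) := Module.nontrivial_of_finrank_pos (R := k) (by omega)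
  exact exists_ne 0

theorem mem_support_quot (p : X) (hp : IsClosed ({p} : Set X)) : p ∈ CohB1.support (ClSub.quotMod (pt p hp)) := by
  by_contra hcon
  have h3 : IsZero (ClSub.quotMod (pt p hp)) := by
    rw [VarietyB.ExactLoc.isZero_iff_stalk]
    intro x
    by_cases hx : x = p
    · subst hx
      exact not_mem_support_iff.1 hcon
    · exact subsingleton_stalk_quot p hp hx
  have h1 := dg_quot k hdim p hp
  rw [dg_of_isZero (k := k) h3] at h1
  simp at h1

/-- If a coherent module has a non-zero map to `κ(p)` then `p` is in its support. -/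
theorem mem_support_of_hom {G : X.Modules} (hG : Coh.IsCoh G) (p : X) (hp : IsClosed ({p} : Set X))
    (f : G ⟶ ClSub.quotMod (pt p hp)) (hf : f ≠ 0) : p ∈ CohB1.support G := by
  have he := epi_of_ne_zero k hdim hG p hp f hf
  by_contra hcon
  have h1 := not_mem_support_iff.1 hcon
  exact mem_support_quot k hdim p hp ((CycB.StalkExact.stalkLin_surjective f p).subsingleton)

end curve

end K61.Skys
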